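import Cfsg.Agent.Lib.LT.Tor4

/-! Monomial matrices realize the abstract torus structure. -/

set_option autoImplicit false
set_option linter.unusedSectionVars false

namespace Cfsg.Agent.LT

open Equiv Finset Matrix Cfsg.Agent.Fus Cfsg.Agent.Fus2

variable {I R K L : Type*} [Fintype I] [DecidableEq I] [CommRing R] [Field K] [Group L]

/-- Matrices of determinant one compatible with a twisted Frobenius map. -/
def GG (σ : Perm I) (Fr : K →+* K) : Subgroup (SpecialLinearGroup I K) :=
  (SpecialLinearGroup.map Fr).eqLocus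
    (MonoidHom.mk' (fun X => ⟨X.1.submatrix σ σ, by rw [det_submatrix_equiv_self, X.2]⟩)
      fun X Y => Subtype.ext (submatrix_mul_equiv _ _ _ σ _).symm)

theorem mem_GG {σ : Perm I} {Fr : K →+* K} {X : SpecialLinearGroup I K} :
    X ∈ GG σ Fr ↔ ∀ p q, X.1 (σ p) (σ q) = Fr (X.1 p q) :=
  ⟨fun h p q => (congrFun (congrFun (congrArg Subtype.val h) p) q).symm,
    fun h => Subtype.ext (Matrix.ext fun p q => (h p q).symm)⟩

/-- The monomial matrix with given exponents. -/
def mono (χ : AddChar R K) (x : Mon I R) : Matrix I I K :=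
  of fun p q => if p = x.w q then χ (x.a p) else 0

theorem mono_mul (χ : AddChar R K) (x y : Mon I R) : mono χ (x * y) = mono χ x * mono χ y := by
  ext p q
  simp only [mono, mul_apply, of_apply, mul_ite, mul_zero, sum_ite_eq', mem_univ, if_true, mul_a,
    mul_w, Perm.mul_apply]
  by_cases h : p = x.w (y.w q)
  · rw [χ.map_add_eq_mul, h]; simp
  · simp [h]

theorem chi_sum (χ : AddChar R K) (a : I → R) : χ (∑ p, a p) = ∏ p, χ (a p) := by
  induction (univ : Finset I) using Finset.induction_on with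
  | empty => simp
  | insert i s hi ih => rw [sum_insert hi, prod_insert hi, χ.map_add_eq_mul, ih]

theorem mono_dg (χ : AddChar R K) (a : I → R) : mono χ (dg a) = diagonal fun p => χ (a p) := by
  ext p q
  by_cases h : p = q <;> simp [mono, h]

theorem det_mono (D : AD I R) (χ : AddChar R K) (h : χ (2 * D.j) = -1) (x : Mon I R) :
    (mono χ x).det = χ (D.sg x.w + ∑ p, x.a p) := by
  have : mono χ x = diagonal (fun p => χ (x.a p)) * x.w⁻¹.permMatrix K := by
    ext p q
    simp [mono, diagonal_mul, PEquiv.toMatrix_apply, Equiv.symm_apply_eq]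
  rw [this, det_mul, det_diagonal, det_permutation, χ.map_add_eq_mul, chi_sum, mul_comm,
    Perm.sign_inv, AD.sg]
  rcases Int.units_eq_one_or (Perm.sign x.w) with e | e <;> simp [e, h]

theorem star_of_mat [Finite K] [Finite L] (D : AD I R) (χ : AddChar R K) (Fr : K →+* K)
    (inj : Function.Injective χ) (hfr : ∀ x, Fr (χ x) = χ (D.r * x)) (hj : χ (2 * D.j) = -1)
    (full : ∀ y : K, (∃ k, y ^ 2 ^ k = 1) → ∃ x, χ x = y) (Θ : GG D.σ Fr →* L)
    (surj : Function.Surjective Θ) (ker : ∀ X, Θ X = 1 ↔ ∃ s, X.1.1 = scalar I s) : Star L := by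
  classical
  have ne : ∀ x, χ x ≠ 0 := fun x => (χ.val_isUnit x).ne_zero
  let m : D.H → GG D.σ Fr := fun x => ⟨⟨mono χ x, by rw [det_mono D χ hj, x.2.2.2]; simp⟩,
    mem_GG.2 fun p q => by
      simp only [mono, of_apply, x.2.2.1 q, D.σ.injective.eq_iff, x.2.1]
      split_ifs <;> simp [hfr]⟩
  let m' : D.H →* GG D.σ Fr := MonoidHom.mk' m fun x y => Subtype.ext (Subtype.ext (mono_mul χ x.1 y.1))
  have hθ : ∀ {x} (hx : x ∈ D.H), fn (Θ.comp m') x = Θ (m ⟨x, hx⟩) := fun hx => fn_apply _ hx
  refine TS.star ⟨D, fn (Θ.comp m'), homOn_fn _, fun x hx => ?_, fun g hg => ?_⟩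
  · rw [hθ hx, ker]
    constructor
    · rintro ⟨s, hs⟩
      have e : ∀ p q, (if p = x.w q then χ (x.a p) else 0) = if p = q then s else 0 := fun p q => by
        simpa [m, mono, scalar_apply, diagonal_apply] using congrFun (congrFun hs p) q
      have hw : x.w = 1 := Perm.ext fun q => by
        by_contra h
        have := e (x.w q) q
        rw [if_pos rfl, if_neg (show ¬ x.w q = q from h)] at this
        exact ne _ this
      refine ⟨hw, fun p q => inj ?_⟩
      have h1 := e p p
      have h2 := e q q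
      simp only [hw, Perm.coe_one, id, if_true] at h1 h2
      rw [h1, h2]
    · rintro ⟨hw, hc⟩
      have : Nonempty I := Fintype.card_pos_iff.1 (by have := D.big; omega)
      obtain ⟨i⟩ := this
      refine ⟨χ (x.a i), Matrix.ext fun p q => ?_⟩
      simp [m, mono, hw, scalar_apply, diagonal_apply, hc p i]
  obtain ⟨X, rfl⟩ := surj g
  have uniq : ∀ p q q', X.1.1 p q ≠ 0 → X.1.1 p q' ≠ 0 → q = q' := by
    intro p q q' h1 h2
    by_contra hne
    obtain ⟨a, ha, hs⟩ := D.sep hne
    obtain ⟨a', ha', e⟩ := hg a ha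
    rw [hθ (AD.dg_mem.2 ha), hθ (AD.dg_mem.2 ha'), ← mul_inv_eq_one, ← map_inv, ← map_inv,
      ← map_mul, ← map_mul, ← map_mul, ker] at e
    obtain ⟨s, e⟩ := e
    have e1 : X * m ⟨_, AD.dg_mem.2 ha⟩ =
        X * m ⟨_, AD.dg_mem.2 ha⟩ * X⁻¹ * (m ⟨_, AD.dg_mem.2 ha'⟩)⁻¹ * m ⟨_, AD.dg_mem.2 ha'⟩ * X := by
      group
    have e2 : X.1.1 * mono χ (dg a) = scalar I s * mono χ (dg a') * X.1.1 := by
      rw [← e]
      exact congrArg (fun Y : GG D.σ Fr => Y.1.1) e1
    rw [mono_dg, mono_dg, scalar_apply, diagonal_mul_diagonal] at e2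
    have k1 := congrFun (congrFun e2 p) q
    have k2 := congrFun (congrFun e2 p) q'
    rw [mul_diagonal, diagonal_mul, mul_comm] at k1 k2
    exact hs (inj ((mul_right_cancel₀ h1 k1).trans (mul_right_cancel₀ h2 k2).symm))
  have row : ∀ p, ∃ q, X.1.1 p q ≠ 0 := fun p => by
    by_contra! h
    have := det_eq_zero_of_row_eq_zero p h
    rw [X.1.2] at this
    exact one_ne_zero this
  choose v hv using row
  have vs : Function.Surjective v := fun q => by
    by_contra! h
    have := det_eq_zero_of_column_eq_zero (A := X.1.1) q fun p => by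
      by_contra e
      exact h p (uniq p _ _ (hv p) e)
    rw [X.1.2] at this
    exact one_ne_zero this
  let w : Perm I := Equiv.ofBijective v vs.bijective_of_finite
  have cw : D.Cs w := fun p => uniq _ _ _ (hv _) (by
    rw [mem_GG.1 X.2]
    exact (map_ne_zero Fr).2 (hv p))
  refine ⟨w, cw, fun a ha => ?_, fun hw ⟨k, hk⟩ => ?_⟩
  · rw [hθ (AD.dg_mem.2 ha), hθ (AD.dg_mem.2 (ha.comp cw)), ← map_inv, ← map_mul, ← map_mul,
      mul_inv_eq_iff_eq_mul.2]
    refine Subtype.ext (Subtype.ext ?_)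
    change X.1.1 * mono χ (dg a) = mono χ (dg fun p => a (w p)) * X.1.1
    rw [mono_dg, mono_dg]
    ext p q
    rw [mul_diagonal, diagonal_mul, mul_comm]
    by_cases e : X.1.1 p q = 0
    · simp [e]
    · rw [uniq _ _ _ e (hv p)]; rfl
  · obtain ⟨n, hn, b, hb⟩ := exists_pow_pElement (p := 2) (isOfFinOrder_of_finite X) k
    have e1 : X.1.1 = diagonal fun p => X.1.1 p p := by
      ext p q
      rw [diagonal_apply]
      split_ifs with e
      · rw [e]
      · by_contra e'
        exact e ((congrArg (· p) hw).symm.trans (uniq _ _ _ (hv p) e'))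
    have e2 : ∀ n : ℕ, (X ^ n).1.1 = diagonal fun p => X.1.1 p p ^ n := fun n => by
      refine (Matrix.SpecialLinearGroup.coe_pow X.1 n).trans ?_
      rw [e1, diagonal_pow]
      simp
    have e3 : ∀ p, ∃ x, χ x = X.1.1 p p ^ n := fun p => full _ ⟨b, by
      have := e2 (n * 2 ^ b)
      rw [pow_mul, hb] at this
      have := congrFun (congrFun this p) p
      rw [← pow_mul]
      simpa using this.symm⟩
    choose a ha using e3
    have ta : D.Tor a := by
      refine ⟨fun p => inj ?_, inj ?_⟩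
      · rw [← hfr, ha, ha, mem_GG.1 X.2, map_pow]
      · have := (X ^ n).1.2
        rw [e2, det_diagonal] at this
        simp only [chi_sum, ha, this, χ.map_zero_eq_one]
    refine ⟨a, ta, ?_⟩
    rw [hθ (AD.dg_mem.2 ta), ← pow_eq_self_of_modEq hk hn, ← map_pow]
    congr 1
    refine Subtype.ext (Subtype.ext ?_)
    rw [e2]
    change mono χ (dg a) = _
    simp only [mono_dg, ha]

end Cfsg.Agent.LT
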