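import Cfsg.Agent.Lib.Alt.Wreath
import Cfsg.Agent.Lib.Fus2.Fn

/-! Sylow 2-subgroups of symmetric groups: transpositions and odd automorphisms. -/

set_option autoImplicit false
set_option linter.unusedSectionVars false

namespace Cfsg.Agent.LT

open Cfsg.Agent.Fus Cfsg.Agent.Fus2 Cfsg.Agent.Alt Equiv Equiv.Perm

/-- A pairing `φ` of the points and a Sylow 2-subgroup `W` of the symmetric group preserving it. -/
structure PD {I : Type*} [Fintype I] [DecidableEq I] (φ : Perm I) (W : Subgroup (Perm I)) :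
    Prop where
  φφ : ∀ i, φ (φ i) = i
  fix : ∀ i l, φ i = i → φ l = l → i = l
  syl : IsSylowIn 2 W ⊤
  comm : ∀ w ∈ W, ∀ i, w (φ i) = φ (w i)
  swap_mem : ∀ i, swap i (φ i) ∈ W
  sn : ∀ γ : Perm I → Perm I, (∀ w ∈ W, γ w ∈ W) → HomOn W γ →
    (∃ N, Odd N ∧ ∀ w ∈ W, γ^[N] w = w) → (∀ w ∈ W, w.IsSwap → (γ w).IsSwap) →
    ∀ i, γ (swap i (φ i)) = swap i (φ i)

section
variable {I : Type*} [Fintype I] [DecidableEq I] {φ : Perm I}

theorem eq_of_swap_comm (hf : ∀ i l, φ i = i → φ l = l → i = l) {p q : I} (hpq : p ≠ q)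
    (h : ∀ i, swap p q (φ i) = φ (swap p q i)) : q = φ p := by
  by_contra hq
  have h1 := h p
  have h2 := h q
  rw [swap_apply_left] at h1
  rw [swap_apply_right] at h2
  by_cases hp : φ p = p
  · rw [hp, swap_apply_left] at h1
    exact hpq (hf _ _ hp h1.symm)
  · rw [swap_apply_of_ne_of_ne hp (Ne.symm hq)] at h1
    exact hpq (φ.injective h1)

theorem eq_one_of_odd_sq {G : Type*} [Group G] {g : G} {N : ℕ} (hN : Odd N) (h1 : g ^ N = 1)
    (h2 : g * g = 1) : g = 1 := by
  obtain ⟨m, rfl⟩ := hN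
  rwa [pow_succ, pow_mul, sq, h2, one_pow, one_mul] at h1

end

variable {ι κ : Type} [Fintype ι] [DecidableEq ι] [Fintype κ] [DecidableEq κ]

theorem z2 : ∀ x : ZMod 2, x + 1 + 1 = x := by decide
theorem z2' : ∀ x : ZMod 2, x + 1 ≠ x := by decide
theorem z2'' : ∀ x y : ZMod 2, y = x ∨ y = x + 1 := by decide

theorem tau_eq (i : ι) (x : ZMod 2) :
    swap (.inl (i, x)) (.inl (i, x + 1)) = tr (κ := κ) (Pi.single i (1 : ZMod 2)) := by
  ext (⟨l, y⟩ | k)
  · by_cases h : l = i
    · subst h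
      rcases z2'' x y with rfl | rfl
      · simp
      · simp [z2]
    · rw [swap_apply_of_ne_of_ne (by simp [h]) (by simp [h])]
      simp [h]
  · rw [swap_apply_of_ne_of_ne (by simp) (by simp)]
    simp

theorem W_comm {Y : Subgroup (Perm ι)} {w : Perm (Pt 2 ι κ)} (hw : w ∈ W 2 κ Y) (p : Pt 2 ι κ) :
    w (tr 1 p) = tr 1 (w p) := by
  obtain ⟨y, -, a, rfl⟩ := hw
  rcases p with ⟨l, x⟩ | k <;> simp [add_right_comm]

theorem tr_fix [Subsingleton κ] (p q : Pt 2 ι κ) (hp : tr 1 p = p) (hq : tr 1 q = q) : p = q := by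
  rcases p with ⟨l, x⟩ | k
  · simp at hp
  rcases q with ⟨l, x⟩ | k'
  · simp at hq
  rw [Subsingleton.elim k k']

theorem swap_W [Subsingleton κ] {Y : Subgroup (Perm ι)} {w : Perm (Pt 2 ι κ)} (hw : w ∈ W 2 κ Y)
    (hs : w.IsSwap) : ∃ i, w = tr (Pi.single i (1 : ZMod 2)) := by
  obtain ⟨p, q, hpq, rfl⟩ := hs
  have := eq_of_swap_comm tr_fix hpq (W_comm hw)
  rcases p with ⟨l, x⟩ | k
  · exact ⟨l, by rw [this, ← tau_eq l x]; simp⟩
  · exact absurd this.symm hpq

theorem tau_inj {i l : ι} (h : tr (κ := κ) (Pi.single i (1 : ZMod 2)) = tr (Pi.single l 1)) :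
    i = l := by
  have := congrArg (· (.inl (i, 0))) h
  by_contra e
  simp [e] at this

theorem tau_isSwap (i : ι) : (tr (κ := κ) (Pi.single i (1 : ZMod 2))).IsSwap :=
  ⟨_, _, by simp, (tau_eq i 0).symm⟩

theorem conj_tau (y : Perm ι) (a : ι → ZMod 2) (i : ι) :
    blk 2 κ y * tr a * tr (Pi.single i (1 : ZMod 2)) * (blk 2 κ y * tr a)⁻¹ =
      tr (Pi.single (y i) 1) := by
  rw [mul_assoc (blk 2 κ y), tr_comm, mul_inv_rev, ← mul_assoc, ← mul_assoc, mul_assoc _ (tr a),
    mul_inv_cancel, mul_one, blk_mul_tr]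
  congr 1
  ext l
  simp only [Pi.single_apply, inv_eq_iff_eq]

/-- Odd order elements normalizing a Sylow 2-subgroup of a symmetric group are trivial. -/
def SN (α : Type) [Fintype α] [DecidableEq α] : Prop :=
  ∀ Y : Subgroup (Perm α), IsSylowIn 2 Y ⊤ → ∀ β ∈ Subgroup.normalizer (Y : Set (Perm α)),
    (∃ N, Odd N ∧ β ^ N = 1) → β = 1

theorem sn_step [Subsingleton κ] (h : SN ι) {Y : Subgroup (Perm ι)} (hY : IsSylowIn 2 Y ⊤)
    (γ : Perm (Pt 2 ι κ) → Perm (Pt 2 ι κ)) (h1 : ∀ w ∈ W 2 κ Y, γ w ∈ W 2 κ Y)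
    (h2 : HomOn (W 2 κ Y) γ) (h3 : ∃ N, Odd N ∧ ∀ w ∈ W 2 κ Y, γ^[N] w = w)
    (h4 : ∀ w ∈ W 2 κ Y, w.IsSwap → (γ w).IsSwap) (i : ι) :
    γ (tr (Pi.single i (1 : ZMod 2))) = tr (Pi.single i 1) := by
  choose b hb using fun i : ι =>
    swap_W (h1 _ (tr_mem_W (Pi.single i (1 : ZMod 2)))) (h4 _ (tr_mem_W _) (tau_isSwap i))
  obtain ⟨N, hN, e⟩ := h3
  have it : ∀ n i, γ^[n] (tr (Pi.single i (1 : ZMod 2))) = tr (Pi.single (b^[n] i) 1) := by
    intro n
    induction n with
    | zero => simp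
    | succ n ih => intro i; rw [Function.iterate_succ_apply', ih, hb, Function.iterate_succ_apply']
  have bN : ∀ i, b^[N] i = i := fun i => tau_inj ((it N i).symm.trans (e _ (tr_mem_W _)))
  have binj : Function.Injective b := by
    obtain ⟨m, rfl⟩ := hN
    intro x y hxy
    rw [← bN x, ← bN y, Function.iterate_add_apply, Function.iterate_add_apply]
    simp [hxy]
  let β : Perm ι := Equiv.ofBijective b binj.bijective_of_finite
  have hβ : β = 1 := by
    refine h Y hY β (Subgroup.mem_normalizer_fintype fun y hy => ?_) ⟨N, hN, ?_⟩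
    · obtain ⟨y', hy', a, e'⟩ := h1 _ (blk_mem_W hy)
      have : β * y * β⁻¹ = y' := by
        rw [mul_inv_eq_iff_eq_mul]
        ext l
        refine tau_inj (κ := κ) ?_
        have h5 := h2.map_conj (blk_mem_W hy) (tr_mem_W (Pi.single l (1 : ZMod 2)))
        have h6 := conj_tau (κ := κ) y 0 l
        rw [tr_zero, mul_one] at h6
        rw [h6, hb, e', hb, conj_tau] at h5
        exact h5
      exact this ▸ hy'
    · ext l
      rw [Perm.coe_pow]
      exact bN l
  rw [hb, show b i = β i from rfl, hβ]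
  rfl

theorem SN.of_equiv {α α' : Type} [Fintype α] [DecidableEq α] [Fintype α'] [DecidableEq α']
    (e : α ≃ α') {U : Subgroup (Perm α)} (hU : IsSylowIn 2 U ⊤)
    (h : ∀ β ∈ Subgroup.normalizer (U : Set (Perm α)), (∃ N, Odd N ∧ β ^ N = 1) → β = 1) :
    SN α' := by
  intro Y hY β hβ ⟨N, hN, eN⟩
  have h1 := hU.map_equiv e.permCongrHom
  rw [Subgroup.map_top_of_surjective _ e.permCongrHom.surjective] at h1
  obtain ⟨g, -, hg⟩ := hY.exists_conj_mem h1.isPGroup le_top
  let f : Perm α ≃* Perm α' := e.permCongrHom.trans (MulAut.conj g)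
  have h2 := hU.map_equiv f
  rw [Subgroup.map_top_of_surjective _ f.surjective] at h2
  have h3 := h2.eq_of_le hY.isPGroup (by
    rintro _ ⟨u, hu, rfl⟩
    exact hg _ ⟨u, hu, rfl⟩) le_top
  have := h (f.symm β) (Subgroup.mem_normalizer_fintype fun u hu => ?_)
    ⟨N, hN, by rw [← map_pow, eN, map_one]⟩
  · simpa using this
  · have h4 : f u ∈ Y := h3 ▸ ⟨u, hu, rfl⟩
    have h5 := (Subgroup.mem_normalizer_iff.1 hβ _).1 h4
    rw [h3] at h5
    obtain ⟨v, hv, ev⟩ := h5
    have : f.symm β * u * (f.symm β)⁻¹ = v := f.injective (by simpa using ev.symm)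
    exact this ▸ hv

theorem sn_all (n : ℕ) : ∀ (α : Type) [Fintype α] [DecidableEq α], Fintype.card α = n → SN α := by
  induction n using Nat.strong_induction_on with
  | _ n ih =>
    intro α _ _ hα
    by_cases hn : n = 0
    · have : IsEmpty α := Fintype.card_eq_zero_iff.1 (hα.trans hn)
      exact fun _ _ _ _ _ => Subsingleton.elim _ _
    obtain ⟨Q, hQ⟩ := exists_isSylowIn 2 (⊤ : Subgroup (Perm (Fin (n / 2))))
    have h1 := ih _ (Nat.div_lt_self (Nat.pos_of_ne_zero hn) one_lt_two) _ (Fintype.card_fin _)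
    have : Subsingleton (Fin (n % 2)) := Fin.subsingleton_iff_le_one.2 (by omega)
    refine SN.of_equiv (Fintype.equivOfCardEq (α := Pt 2 (Fin (n / 2)) (Fin (n % 2)))
      (by simp [hα, Nat.div_add_mod'])) (isSylowIn_W (by simp; omega) hQ) ?_
    intro β hβ ⟨N, hN, eN⟩
    have key := sn_step h1 hQ (fun w => β * w * β⁻¹)
      (fun w hw => (Subgroup.mem_normalizer_iff.1 hβ w).1 hw) (homOn_conj _ β)
      ⟨N, hN, fun w _ => by
        have : ∀ m, (fun w => β * w * β⁻¹)^[m] w = β ^ m * w * (β ^ m)⁻¹ := by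
          intro m
          induction m with
          | zero => simp
          | succ m ih => rw [Function.iterate_succ_apply', ih, pow_succ']; group
        rw [this, eN]; simp⟩
      (fun w _ ⟨p, q, hpq, e⟩ => ⟨β p, β q, β.injective.ne hpq, by rw [e, swap_apply_apply]⟩)
    have k2 : ∀ i p, β (tr (Pi.single i (1 : ZMod 2)) p) = tr (Pi.single i 1) (β p) := fun i p => by
      have := congrArg (· (β p)) (key i)
      simpa using this
    refine eq_one_of_odd_sq hN eN ?_
    ext (⟨i, x⟩ | k)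
    · have k3 := k2 i (.inl (i, x))
      have k4 : β (.inl (i, x + 1)) ≠ β (.inl (i, x)) := β.injective.ne (by simp)
      rcases e : β (.inl (i, x)) with ⟨l, y⟩ | k
      · have hl : l = i := by
          by_contra hl
          rw [e] at k3 k4
          simp [hl] at k3
          exact k4 k3
        subst hl
        rcases z2'' x y with rfl | rfl
        · simp [e]
        · rw [e] at k3
          simp only [tr_inl, Pi.single_eq_same, z2] at k3
          simp [e, k3]
      · rw [e] at k3 k4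
        simp at k3
        exact absurd k3 k4
    · rcases e : β (.inr k) with ⟨l, y⟩ | k'
      · have k3 := k2 l (.inr k)
        rw [tr_inr, e] at k3
        simp at k3
      · rw [Subsingleton.elim k' k] at e
        simp [e]

theorem exists_pd (n : ℕ) : ∃ W, PD (tr (1 : Fin (n / 2) → ZMod 2) :
    Perm (Pt 2 (Fin (n / 2)) (Fin (n % 2)))) W := by
  obtain ⟨Q, hQ⟩ := exists_isSylowIn 2 (⊤ : Subgroup (Perm (Fin (n / 2))))
  have : Subsingleton (Fin (n % 2)) := Fin.subsingleton_iff_le_one.2 (by omega)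
  refine ⟨W 2 _ Q, ?_, tr_fix, isSylowIn_W (by simp; omega) hQ, fun w hw => W_comm hw, ?_, ?_⟩
  · rintro (⟨i, x⟩ | k) <;> simp [z2]
  · rintro (⟨i, x⟩ | k)
    · simp only [tr_inl, Pi.one_apply, tau_eq]
      exact tr_mem_W _
    · simp only [tr_inr, swap_self]
      exact one_mem _
  · rintro γ h1 h2 h3 h4 (⟨i, x⟩ | k)
    · simp only [tr_inl, Pi.one_apply, tau_eq]
      exact sn_step (sn_all _ _ rfl) hQ γ h1 h2 h3 h4 i
    · simp only [tr_inr, swap_self]
      exact h2.map_one

section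
variable {I : Type*} [Fintype I] [DecidableEq I] {φ : Perm I}

theorem swap_comm_iff {a b c d : I} (hab : a ≠ b) (hcd : c ≠ d) :
    swap a b * swap c d = swap c d * swap a b ↔
      (c ≠ a ∧ c ≠ b ∧ d ≠ a ∧ d ≠ b) ∨ (c = a ∧ d = b) ∨ (c = b ∧ d = a) := by
  constructor
  · intro h
    have h1 := congrArg (· c) h
    have h2 := congrArg (· d) h
    simp only [Perm.mul_apply, swap_apply_def] at h1 h2
    grind
  · intro h
    ext x
    simp only [Perm.mul_apply, swap_apply_def]
    grind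

/-- An automorphism of odd order of the symmetric group preserving transpositions and fixing the
transpositions of a pairing fixes all transpositions. -/
theorem fix_swaps (hφ : ∀ i, φ (φ i) = i) (hf : ∀ i l, φ i = i → φ l = l → i = l)
    {γ : Perm I → Perm I} (h2 : ∀ w v, γ (w * v) = γ w * γ v)
    (h3 : ∃ N, Odd N ∧ ∀ w, γ^[N] w = w) (h4 : ∀ w : Perm I, w.IsSwap → (γ w).IsSwap)
    (h5 : ∀ i, γ (swap i (φ i)) = swap i (φ i)) {i l : I} (hil : i ≠ l) :
    γ (swap i l) = swap i l := by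
  obtain ⟨N, ⟨m, rfl⟩, e⟩ := h3
  have inj : Function.Injective γ := fun x y hxy => by
    rw [← e x, ← e y, Function.iterate_add_apply, Function.iterate_add_apply]
    simp [hxy]
  wlog hi : φ i ≠ i generalizing i l
  · rw [swap_comm]
    exact this hil.symm fun hl => hil (hf _ _ (not_not.1 hi) hl)
  by_cases hl : l = φ i
  · rw [hl, h5]
  obtain ⟨i', l', hil', e'⟩ := h4 _ ⟨i, l, hil, rfl⟩
  have cm : ∀ p, swap p (φ p) * swap i' l' = swap i' l' * swap p (φ p) ↔
      swap p (φ p) * swap i l = swap i l * swap p (φ p) := fun p => by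
    rw [← e', ← h5 p, ← h2, ← h2, h5, inj.eq_iff]
  have key : ∃ δ : Perm I, δ * δ = 1 ∧ γ δ = δ ∧ swap i' l' = δ * swap i l * δ⁻¹ := by
    have a1 := (cm i).not.2 (by rw [swap_comm_iff hi.symm hil]; grind)
    rw [swap_comm_iff hi.symm hil'] at a1
    wlog hi' : i' = i ∨ i' = φ i generalizing i' l'
    · rw [swap_comm]
      exact this l' i' hil'.symm (by rw [e', swap_comm]) (fun p => by rw [swap_comm l', cm])
        (by grind) (by grind)
    have hl' : l' = l ∨ (l' = φ l ∧ φ l ≠ l) := by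
      by_cases hl0 : φ l = l
      · by_contra hc
        have b0 : φ l' ≠ l' := fun h => hc (Or.inl (hf _ _ h hl0))
        have b1 := (cm l').2 (by
          rw [swap_comm_iff b0.symm hil]
          have := hφ i
          have := hφ l'
          grind)
        rw [swap_comm_iff b0.symm hil'] at b1
        have := hφ i
        have := hφ l'
        grind
      · have b1 := (cm l).not.2 (by
          rw [swap_comm_iff (Ne.symm hl0) hil]
          have := hφ l
          grind)
        rw [swap_comm_iff (Ne.symm hl0) hil'] at b1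
        have := hφ i
        have := hφ l
        grind
    have g1 : γ 1 = 1 := by simpa using h2 1 1
    have n1 : φ l ≠ i := fun h => hl (by rw [← h, hφ])
    have n2 : φ l ≠ φ i := φ.injective.ne hil.symm
    rcases hi' with rfl | rfl <;> rcases hl' with rfl | ⟨rfl, hl0⟩
    · exact ⟨1, by simp, g1, by simp⟩
    · refine ⟨_, swap_mul_self _ _, h5 l, ?_⟩
      rw [← swap_apply_apply, swap_apply_left, swap_apply_of_ne_of_ne hil n1.symm]
    · refine ⟨_, swap_mul_self _ _, h5 i, ?_⟩
      rw [← swap_apply_apply, swap_apply_left, swap_apply_of_ne_of_ne hil.symm hl]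
    · refine ⟨swap i (φ i) * swap l (φ l), ?_, by rw [h2, h5, h5], ?_⟩
      · have := (swap_comm_iff hi.symm hl0.symm).2 (by grind)
        rw [mul_assoc, ← mul_assoc (swap l _), ← this]
        simp [mul_assoc]
      · rw [← swap_apply_apply, Perm.mul_apply, Perm.mul_apply, swap_apply_left,
          swap_apply_of_ne_of_ne hil n1.symm, swap_apply_left, swap_apply_of_ne_of_ne n1 n2]
  obtain ⟨δ, d1, d2, d3⟩ := key
  have di : δ⁻¹ = δ := inv_eq_of_mul_eq_one_right d1
  have g2 : γ (γ (swap i l)) = swap i l := by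
    rw [e', d3, di, h2, h2, d2, e', d3, di]
    calc _ = (δ * δ) * swap i l * (δ * δ) := by group
      _ = _ := by simp [d1]
  have g3 : ∀ k, γ^[2 * k] (swap i l) = swap i l := fun k => by
    rw [Function.iterate_mul]
    exact Function.iterate_fixed (by simpa using g2) k
  have := e (swap i l)
  rwa [add_comm, Function.iterate_add_apply, g3] at this

end

end Cfsg.Agent.LT
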