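import Mathlib

/-! Simplicity of `PSL(n, F)` for `n ≥ 3`. -/

set_option autoImplicit false
set_option linter.unusedSectionVars false

namespace Cfsg.Agent.LT

open Matrix Matrix.SpecialLinearGroup MulAction
open scoped LinearAlgebra.Projectivization commutatorElement

variable {ι F : Type*} [Field F] [DecidableEq ι] [Fintype ι]

theorem smz {a b c d : ι} (h : b ≠ c) (x y : F) : single a b x * single c d y = 0 :=
  single_mul_single_of_ne _ _ _ _ h _

theorem diag2n_decompose {i j : ι} (hij : i ≠ j) (a : F) (ha : a ≠ 0) :
    diag2n hij a ha = SpecialLinearGroup.transvection hij a *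
      SpecialLinearGroup.transvection hij.symm (- a⁻¹) *
      SpecialLinearGroup.transvection hij a *
      SpecialLinearGroup.transvection hij (-1) *
      SpecialLinearGroup.transvection hij.symm 1 *
      SpecialLinearGroup.transvection hij (-1) := by
  refine Subtype.ext ?_
  have h1 := mul_inv_cancel₀ ha
  have h2 := inv_mul_cancel₀ ha
  simp only [coe_mul, diag2n_coe, transvection_coe, mul_add, add_mul, one_mul, mul_one,
    single_mul_single_same, smz hij,
    smz hij.symm, zero_mul, add_zero, zero_add]
  ext p q
  by_cases hp : p = i <;> by_cases hp' : p = j <;> by_cases hq : q = i <;> by_cases hq' : q = j <;>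
    simp_all [diagonal_apply, single_apply, one_apply, eq_comm]

theorem transvection_induction [Nontrivial ι] (P : SpecialLinearGroup ι F → Prop)
    (ht : ∀ (i j : ι) (h : i ≠ j) c, P (SpecialLinearGroup.transvection h c))
    (hm : ∀ A B, P A → P B → P (A * B)) (A : SpecialLinearGroup ι F) : P A := by
  refine diagonal_transvection_induction' P _ (fun i j hij c hc ↦ ?_) ht hm
  rw [diag2n_decompose hij c hc]
  refine hm _ _ (hm _ _ (hm _ _ (hm _ _ (hm _ _ ?_ ?_) ?_) ?_) ?_) ?_
  all_goals exact ht _ _ _ _

theorem comm_transvection {i j k : ι} (hij : i ≠ j) (hik : i ≠ k) (hkj : k ≠ j) (a : F) :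
    ⁅SpecialLinearGroup.transvection hik a, SpecialLinearGroup.transvection hkj (1 : F)⁆ =
      SpecialLinearGroup.transvection hij a := by
  rw [commutatorElement_def, SpecialLinearGroup.transvection_inv,
    SpecialLinearGroup.transvection_inv]
  refine Subtype.ext ?_
  simp only [coe_mul, transvection_coe, mul_add, add_mul, one_mul, mul_one,
    single_mul_single_same, smz hij.symm,
    smz hik.symm, smz hkj.symm,
    zero_mul, add_zero, zero_add]
  ext p q
  simp only [Matrix.add_apply, single_apply]
  split_ifs <;> ring

theorem psl_simple (h3 : 3 ≤ Fintype.card ι) :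
    IsSimpleGroup (Matrix.ProjectiveSpecialLinearGroup ι F) ∧
      Group.IsPerfect (Matrix.ProjectiveSpecialLinearGroup ι F) := by
  have : Nontrivial ι := Fintype.one_lt_card_iff_nontrivial.1 (by omega)
  have hc : commutator (SpecialLinearGroup ι F) = ⊤ := by
    refine le_antisymm le_top fun A _ => transvection_induction _ (fun i j h c => ?_)
      (fun _ _ => mul_mem) A
    obtain ⟨k, hk⟩ : ∃ k, k ∉ ({i, j} : Finset ι) := by
      by_contra! hk
      have := Finset.card_le_card (s := Finset.univ) (t := {i, j}) fun k _ => hk k
      have h2 := Finset.card_le_two (a := i) (b := j)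
      rw [Finset.card_univ] at this
      omega
    simp only [Finset.mem_insert, Finset.mem_singleton, not_or] at hk
    rw [← comm_transvection h (Ne.symm hk.1) hk.2]
    exact Subgroup.commutator_mem_commutator (Subgroup.mem_top _) (Subgroup.mem_top _)
  have hp : Group.IsPerfect (SpecialLinearGroup ι F) := ⟨hc⟩
  have hp' : Group.IsPerfect (Matrix.ProjectiveSpecialLinearGroup ι F) := inferInstance
  have hg : (⨆ p : ℙ F (ι → F), lineStab p.submodule) = (⊤ : Subgroup (SpecialLinearGroup ι F)) := by
    refine le_antisymm le_top fun A _ => transvection_induction _ (fun i j h c => ?_)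
      (fun _ _ => mul_mem) A
    refine Subgroup.mem_iSup_of_mem (Projectivization.mk F (Pi.single i (1 : F) : ι → F)
      (Pi.single_ne_zero_iff.2 one_ne_zero)) ?_
    rw [Projectivization.submodule_mk]
    exact SL2Gen.transvection_mem_lineStab h c
  let Iw : IwasawaStructure (Matrix.ProjectiveSpecialLinearGroup ι F) (ℙ F (ι → F)) :=
    { T := PSL.iwasawaT
      is_comm := fun p => by
        have hSL : IsMulCommutative (lineStab (F := F) (ι := ι) p.submodule) := by
          rw [← Projectivization.mk_rep p, Projectivization.submodule_mk]
          exact lineStab_isMulCommutative_of_span p.rep p.rep_nonzero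
        exact Subgroup.map_isMulCommutative _ _
      is_conj := fun g p => by
        obtain ⟨g_SL, rfl⟩ := QuotientGroup.mk_surjective g
        rw [Matrix.ProjectiveSpecialLinearGroup.smul_proj_mk]
        change Subgroup.map _ _ = _
        rw [PSL.smul_submodule, Matrix.SpecialLinearGroup.lineStab_smul, PSL.iwasawaT_map_conj]
      is_generator := by
        have step1 : iSup (PSL.iwasawaT (F := F) (ι := ι)) =
            Subgroup.map (QuotientGroup.mk' (Subgroup.center (Matrix.SpecialLinearGroup ι F)))
              (⨆ p : ℙ F (ι → F), lineStab (F := F) (ι := ι) p.submodule) := by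
          rw [Subgroup.map_iSup]
        rw [step1, hg]
        exact Subgroup.map_top_of_surjective _ (QuotientGroup.mk'_surjective _) }
  exact ⟨MulAction.IwasawaStructure.isSimpleGroup hp'.commutator_eq_top Iw inferInstance, hp'⟩

end Cfsg.Agent.LT
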