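import Cfsg.Agent.Lib.LT.Mat
import Cfsg.Agent.Lib.LT.Simple
import Cfsg.Agent.Lib.ZStar.WC

/-! Odd order automorphisms of the 2-fusion system of `PSL_n(q)`, `q` odd, are trivial. -/

set_option autoImplicit false
set_option linter.unusedSectionVars false

namespace Cfsg.Agent.LT

open Equiv Finset Matrix Cfsg.Agent.Fus Cfsg.Agent.Fus2

variable {I J F K L : Type*} [Fintype I] [DecidableEq I] [Fintype J] [DecidableEq J] [Field F]
  [Field K] [Group L]

theorem star_of_field [Finite K] [Finite L] {s o c : ℕ} (ho : Odd o)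
    (hK : Nat.card K = 2 ^ (s + 2) * o + 1) {φ σ : Perm I} {W : Subgroup (Perm I)} (pd : PD φ W)
    (Fr : K →+* K) (case : (σ = 1 ∧ (∀ x, Fr x = x) ∧ s = c) ∨ (σ = φ ∧ s = c + 1 ∧
      ∀ ζ : K, ζ ^ 2 ^ (s + 1) = -1 → ζ * Fr ζ = -1))
    (big : 3 ≤ Fintype.card I ∨ (Fintype.card I = 2 ∧ c ≠ 0)) (Θ : GG σ Fr →* L)
    (surj : Function.Surjective Θ) (ker : ∀ X, Θ X = 1 ↔ ∃ s, X.1.1 = scalar I s) : Star L := by
  classical
  have hu : Nat.card Kˣ = 2 ^ (s + 2) * o := by rw [Nat.card_units, hK]; simp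
  obtain ⟨g, hg⟩ := IsCyclic.exists_ofOrder_eq_natCard (α := Kˣ)
  have h0 : IsPrimitiveRoot g (2 ^ (s + 2) * o) := hu ▸ hg ▸ IsPrimitiveRoot.orderOf g
  have h1 : IsPrimitiveRoot ((g : K) ^ o) (2 ^ (s + 2)) :=
    (IsPrimitiveRoot.coe_units_iff.2 h0).pow (by have := ho.pos; positivity) (mul_comm _ _)
  set ζ := (g : K) ^ o
  let χ := AddChar.zmodChar (2 ^ (s + 2)) h1.pow_eq_one
  have inj : Function.Injective χ := fun x y e => ZMod.val_injective _
    (h1.pow_inj (ZMod.val_lt x) (ZMod.val_lt y) e)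
  have nat : ∀ n : ℕ, χ n = ζ ^ n := AddChar.zmodChar_apply' _
  have h3 : IsPrimitiveRoot (ζ ^ 2 ^ (s + 1)) 2 := h1.pow (by positivity) (by ring)
  have h2 : ζ ^ 2 ^ (s + 1) = -1 := h3.eq_neg_one_of_two_right
  have hj : χ (2 * 2 ^ s) = -1 := by
    rw [← h2, ← nat]
    congr 1
    push_cast
    ring
  have j4 : (4 * 2 ^ s : ZMod (2 ^ (s + 2))) = 0 := by
    have := ZMod.natCast_self (2 ^ (s + 2))
    push_cast at this
    linear_combination this
  have j2 : (2 * 2 ^ s : ZMod (2 ^ (s + 2))) ≠ 0 := fun e => h3.ne_one one_lt_two (by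
    rw [h2, ← hj, e, χ.map_zero_eq_one])
  have inv : ∀ x : ZMod (2 ^ (s + 2)), 2 * x = 0 → x = 0 ∨ x = 2 * 2 ^ s := fun x e => by
    have : χ x * χ x = 1 := by rw [← χ.map_add_eq_mul, ← two_mul, e, χ.map_zero_eq_one]
    exact (mul_self_eq_one_iff.1 this).imp (fun e => inj (by rw [e, χ.map_zero_eq_one]))
      fun e => inj (by rw [e, hj])
  have full : ∀ y : K, (∃ k, y ^ 2 ^ k = 1) → ∃ x, χ x = y := by
    rintro y ⟨k, hk⟩
    have y0 : y ≠ 0 := by rintro rfl; simp at hk
    have e1 : y ^ (2 ^ (s + 2) * o) = 1 := by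
      have := pow_card_eq_one' (x := Units.mk0 y y0)
      rw [hu] at this
      simpa using congrArg Units.val this
    have e2 : orderOf y ∣ 2 ^ (s + 2) :=
      (Nat.Coprime.coprime_dvd_left (orderOf_dvd_of_pow_eq_one hk)
        ((Nat.coprime_two_left.2 ho).pow_left k)).dvd_of_dvd_mul_right
        (orderOf_dvd_of_pow_eq_one e1)
    obtain ⟨i, -, e⟩ := h1.eq_pow_of_pow_eq_one (orderOf_dvd_iff_pow_eq_one.1 e2)
    exact ⟨i, (nat i).trans e⟩
  have nn : ∀ x : ZMod (2 ^ (s + 2)), ∃ n : ℕ, x = n := fun x => ⟨x.val, by simp⟩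
  rcases case with ⟨rfl, hF, rfl⟩ | ⟨rfl, rfl, hF⟩
  · exact star_of_mat ⟨φ, 1, W, 2 ^ s, 1, 1, s, pd, j4, j2, inv, nn, by simp,
      Or.inl ⟨rfl, rfl, rfl⟩, big⟩ χ Fr inj (fun x => by simp [hF]) hj full Θ surj ker
  · refine star_of_mat ⟨σ, σ, W, 2 ^ (c + 1), 2, 2 * 2 ^ (c + 1) - 1, c, pd, j4, j2, inv, nn,
      pow_succ _ _, Or.inr ⟨rfl, rfl, rfl⟩, big⟩ χ Fr inj (fun x => ?_) hj full Θ surj ker
    obtain ⟨n, rfl⟩ := nn x
    have z0 : ζ ≠ 0 := h1.ne_zero (by positivity)
    have : Fr ζ = χ (2 * 2 ^ (c + 1) - 1) := mul_left_cancel₀ z0 (by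
      rw [hF ζ h2, ← hj, ← pow_one ζ, ← nat, ← χ.map_add_eq_mul]
      simp)
    rw [nat, map_pow, this, ← χ.map_nsmul_eq_pow, nsmul_eq_mul, mul_comm]

theorem exists_Θ [Algebra F K] (e : I ≃ J) (Fr : K →+* K) (σ : Perm I) {U V : Matrix I I K}
    (hUV : U * V = 1)
    (h1 : ∀ X : Matrix I I F, (U * X.map (algebraMap F K) * V).submatrix σ σ =
      (U * X.map (algebraMap F K) * V).map Fr)
    (h2 : ∀ Y : Matrix I I K, Y.submatrix σ σ = Y.map Fr →
      ∃ X : Matrix I I F, X.map (algebraMap F K) = V * Y * U) :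
    ∃ Θ : GG σ Fr →* ProjectiveSpecialLinearGroup J F, Function.Surjective Θ ∧
      ∀ X, Θ X = 1 ↔ ∃ s, X.1.1 = scalar I s := by
  have hVU : V * U = 1 := mul_eq_one_comm.1 hUV
  have hd : U.det * V.det = 1 := by rw [← det_mul, hUV, det_one]
  have inj := (algebraMap F K).injective
  have dm : ∀ X : Matrix I I F, (X.map (algebraMap F K)).det = algebraMap F K X.det := fun X =>
    ((algebraMap F K).map_det X).symm
  let ρ : SpecialLinearGroup J F →* GG σ Fr := MonoidHom.mk'
    (fun X => ⟨⟨U * (X.1.submatrix e e).map (algebraMap F K) * V, by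
      rw [det_mul, det_mul, dm, det_submatrix_equiv_self, X.2, map_one, mul_one, hd]⟩,
      mem_GG.2 fun p q => congrFun (congrFun (h1 _) p) q⟩)
    fun X Y => Subtype.ext (Subtype.ext (by
      change U * ((X.1 * Y.1).submatrix e e).map (algebraMap F K) * V =
        U * (X.1.submatrix e e).map (algebraMap F K) * V *
          (U * (Y.1.submatrix e e).map (algebraMap F K) * V)
      rw [← submatrix_mul_equiv _ _ _ e, Matrix.map_mul]
      simp only [Matrix.mul_assoc]
      rw [← Matrix.mul_assoc V, hVU, Matrix.one_mul]))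
  have hρ : ∀ X, V * (ρ X).1.1 * U = (X.1.submatrix e e).map (algebraMap F K) := fun X => by
    change V * (U * (X.1.submatrix e e).map (algebraMap F K) * V) * U = _
    simp only [Matrix.mul_assoc]
    rw [← Matrix.mul_assoc V, hVU, Matrix.one_mul, Matrix.mul_one]
  have bij : Function.Bijective ρ := by
    refine ⟨fun X Y h => Subtype.ext (Matrix.ext fun p q => inj ?_), fun Y => ?_⟩
    · have := (hρ X).symm.trans (h ▸ hρ Y)
      simpa using congrFun (congrFun this (e.symm p)) (e.symm q)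
    · obtain ⟨X, hX⟩ := h2 Y.1.1 (Matrix.ext fun p q => mem_GG.1 Y.2 p q)
      refine ⟨⟨X.submatrix e.symm e.symm, inj ?_⟩, Subtype.ext (Subtype.ext ?_)⟩
      · rw [det_submatrix_equiv_self, ← dm, hX, det_mul, det_mul, Y.1.2, mul_one, mul_comm, hd,
          map_one]
      · change U * ((X.submatrix e.symm e.symm).submatrix e e).map (algebraMap F K) * V = _
        simp only [submatrix_submatrix, Equiv.symm_comp_self, submatrix_id_id, hX,
          Matrix.mul_assoc]
        rw [← Matrix.mul_assoc U, hUV, Matrix.one_mul, Matrix.mul_one]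
  let ε := MulEquiv.ofBijective ρ bij
  refine ⟨(QuotientGroup.mk' _).comp ε.symm.toMonoidHom,
    (QuotientGroup.mk'_surjective _).comp ε.symm.surjective, fun Y => ?_⟩
  obtain ⟨X, rfl⟩ := ε.surjective Y
  simp only [MonoidHom.comp_apply, MulEquiv.coe_toMonoidHom, MulEquiv.symm_apply_apply,
    QuotientGroup.mk'_apply, QuotientGroup.eq_one_iff]
  have sc : ∀ (s : K) (A : Matrix I I K), scalar I s * A = A * scalar I s := fun s A =>
    (scalar_commute s (fun _ => mul_comm _ _) A).eq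
  constructor
  · intro h
    obtain ⟨r, -, hr⟩ := Matrix.SpecialLinearGroup.mem_center_iff.1 h
    refine ⟨algebraMap F K r, ?_⟩
    change U * (X.1.submatrix e e).map (algebraMap F K) * V = _
    have : (X.1.submatrix e e).map (algebraMap F K) = scalar I (algebraMap F K r) := by
      ext p q
      by_cases h : p = q <;> simp [← hr, h]
    rw [this, ← sc, Matrix.mul_assoc, hUV, Matrix.mul_one]
  · rintro ⟨s, hs⟩
    have h3 := hρ X
    rw [show (ρ X).1.1 = scalar I s from hs, ← sc, Matrix.mul_assoc, hVU, Matrix.mul_one] at h3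
    refine Subgroup.mem_center_iff.2 fun B => Subtype.ext (Matrix.ext fun p q => inj ?_)
    have h4 : X.1.map (algebraMap F K) = scalar J s := by
      ext p q
      have := congrFun (congrFun h3 (e.symm p)) (e.symm q)
      by_cases h : p = q <;> simpa [h] using this.symm
    have h5 : (B.1 * X.1).map (algebraMap F K) = (X.1 * B.1).map (algebraMap F K) := by
      rw [Matrix.map_mul, Matrix.map_mul, h4]
      exact (scalar_commute s (fun _ => mul_comm _ _) _).eq.symm
    exact congrFun (congrFun h5 p) q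

theorem exists_twist [Algebra F K] (e : I ≃ J) (Fr : K →+* K) {σ : Perm I} (hσ : σ * σ = 1)
    {i : K} (hi : i * i = -1) (h2 : (2 : K) ≠ 0) (hF : Fr i = -i)
    (hF' : ∀ x, Fr x = x ↔ ∃ y, algebraMap F K y = x) :
    ∃ Θ : GG σ Fr →* ProjectiveSpecialLinearGroup J F, Function.Surjective Θ ∧
      ∀ X, Θ X = 1 ↔ ∃ s, X.1.1 = scalar I s := by
  set P := σ.permMatrix K with hP
  have PP : P * P = 1 := by rw [hP, ← permMatrix_mul, hσ, permMatrix_one]
  have sub : ∀ Y : Matrix I I K, Y.submatrix σ σ = P * Y * P := fun Y => by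
    have : σ.symm = σ := inv_eq_of_mul_eq_one_right hσ
    rw [hP, PEquiv.toMatrix_toPEquiv_mul, PEquiv.mul_toMatrix_toPEquiv, this]
    rfl
  have fP : P.map Fr = P := by
    ext p q
    simp [hP, PEquiv.toMatrix_apply]
  set a := (1 + i) / 2 with ha
  set b := (1 - i) / 2 with hb
  have e1 : a * b + b * a = 1 := by
    rw [ha, hb]; field_simp; linear_combination (-2) * hi
  have e2 : a * a + b * b = 0 := by
    rw [ha, hb]; field_simp; linear_combination 2 * hi
  have fa : Fr a = b := by simp [ha, hb, hF, sub_eq_add_neg, map_ofNat]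
  have fb : Fr b = a := by simp [ha, hb, hF, map_ofNat]
  have fm : ∀ x y : K, (x • (1 : Matrix I I K) + y • P).map Fr = Fr x • 1 + Fr y • P := by
    intro x y
    nth_rewrite 2 [← fP]
    ext p q
    by_cases h : p = q <;> simp [h]
  have k1 : ∀ x y : K, P * (x • (1 : Matrix I I K) + y • P) = y • 1 + x • P := fun x y => by
    simp [mul_add, PP, add_comm]
  have k2 : ∀ x y : K, (x • (1 : Matrix I I K) + y • P) * P = y • 1 + x • P := fun x y => by
    simp [add_mul, PP, add_comm]
  refine exists_Θ e Fr σ (U := a • 1 + b • P) (V := b • 1 + a • P) ?_ (fun X => ?_) fun Y hY => ?_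
  · simp only [mul_add, add_mul, smul_mul_smul_comm, PP, mul_one, one_mul]
    calc _ = (a * b + b * a) • (1 : Matrix I I K) + (a * a + b * b) • P := by module
      _ = 1 := by simp [e1, e2]
  · have : (X.map (algebraMap F K)).map Fr = X.map (algebraMap F K) :=
      Matrix.ext fun p q => (hF' _).2 ⟨_, rfl⟩
    rw [Matrix.map_mul, Matrix.map_mul, this, fm, fm, fa, fb, sub, ← Matrix.mul_assoc,
      ← Matrix.mul_assoc, k1, Matrix.mul_assoc _ _ P, k2]
  · have : ((b • 1 + a • P) * Y * (a • 1 + b • P)).map Fr = (b • 1 + a • P) * Y * (a • 1 + b • P) := by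
      rw [Matrix.map_mul, Matrix.map_mul, ← hY, fm, fm, fa, fb, sub, ← Matrix.mul_assoc,
        ← Matrix.mul_assoc, k2, Matrix.mul_assoc _ P, k1]
    choose X hX using fun p q => (hF' _).1 (congrFun (congrFun this p) q)
    exact ⟨of X, Matrix.ext hX⟩

theorem star_psl [Fintype F] {n : ℕ} (hn : 2 ≤ n) (hq : Odd (Fintype.card F))
    (h2 : n = 2 → Fintype.card F % 8 = 1 ∨ Fintype.card F % 8 = 7) :
    Star (ProjectiveSpecialLinearGroup (Fin n) F) := by
  classical
  obtain ⟨W, pd⟩ := exists_pd n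
  have cI : Fintype.card (Alt.Pt 2 (Fin (n / 2)) (Fin (n % 2))) = n := by
    simp [Nat.div_add_mod']
  let e := Fintype.equivFinOfCardEq cI
  have q1 : 1 < Fintype.card F := Fintype.one_lt_card
  have q2 := Nat.odd_iff.1 hq
  by_cases h4 : Fintype.card F % 4 = 1
  · obtain ⟨k, o, ho, hk⟩ := Nat.exists_eq_two_pow_mul_odd (n := (Fintype.card F - 1) / 4)
      (by omega)
    obtain ⟨Θ, h1, h3⟩ := exists_Θ (F := F) e (RingHom.id F) 1 (U := 1) (V := 1) (by simp)
      (fun X => by simp) fun Y _ => ⟨Y, by simp⟩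
    refine star_of_field (s := k) (c := k) ho ?_ pd _ (Or.inl ⟨rfl, fun _ => rfl, rfl⟩) ?_ Θ h1 h3
    · rw [Nat.card_eq_fintype_card, pow_add, mul_right_comm, ← hk]; omega
    · rw [cI]
      refine (show 3 ≤ n ∨ n = 2 by omega).imp_right fun h => ⟨h, ?_⟩
      rintro rfl
      have := h2 h
      have := Nat.odd_iff.1 ho
      omega
  have h3 : Fintype.card F % 4 = 3 := by omega
  have : Fact (∀ r : F, r ^ 2 ≠ -1 + 0 * r) := ⟨fun r h =>
    FiniteField.isSquare_neg_one_iff.1 ⟨r, by linear_combination -h⟩ h3⟩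
  have : Finite (QuadraticAlgebra F (-1) 0) :=
    Finite.of_equiv _ (QuadraticAlgebra.equivProd (-1 : F) 0).symm
  obtain ⟨k, o, ho, hk⟩ := Nat.exists_eq_two_pow_mul_odd (n := (Fintype.card F + 1) / 4) (by omega)
  have hk' : Fintype.card F + 1 = 2 ^ (k + 1 + 1) * o := by
    rw [add_assoc, pow_add, mul_right_comm, ← hk]; omega
  let Fr := (FiniteField.frobeniusAlgHom F (QuadraticAlgebra F (-1) 0)).toRingHom
  have hFr : ∀ x, Fr x = x ^ Fintype.card F := fun _ => rfl
  have hi : (QuadraticAlgebra.omega : QuadraticAlgebra F (-1) 0) * QuadraticAlgebra.omega = -1 := by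
    ext <;> simp <;> rfl
  have hF : Fr QuadraticAlgebra.omega = -QuadraticAlgebra.omega := by
    rw [hFr, ← Nat.div_add_mod (Fintype.card F) 4, h3, pow_add, pow_mul]
    have : (QuadraticAlgebra.omega : QuadraticAlgebra F (-1) 0) ^ 4 = 1 := by
      linear_combination (QuadraticAlgebra.omega * QuadraticAlgebra.omega - 1) * hi
    rw [this, one_pow]
    linear_combination QuadraticAlgebra.omega * hi
  have t2 : (2 : F) ≠ 0 := Ring.two_ne_zero fun h => by
    have := FiniteField.even_card_iff_char_two.1 h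
    omega
  have al : ∀ y, Fr (algebraMap F _ y) = algebraMap F _ y := fun y =>
    (FiniteField.frobeniusAlgHom F (QuadraticAlgebra F (-1) 0)).commutes y
  obtain ⟨Θ, h1, h5⟩ := exists_twist (F := F) e Fr (σ := Alt.tr 1) (Perm.ext pd.φφ) hi (fun h => t2
    ((algebraMap F (QuadraticAlgebra F (-1) 0)).injective (by simpa [map_ofNat] using h))) hF fun x => ⟨fun h => ⟨x.re, by
      have e1 : x = algebraMap F _ x.re + algebraMap F _ x.im * QuadraticAlgebra.omega := by
        ext <;> simp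
      rw [e1, map_add, map_mul, al, al, hF] at h
      have := congrArg QuadraticAlgebra.im h
      have e2 : x.im = 0 := (mul_eq_zero.1 (show 2 * x.im = 0 by
        simp at this
        linear_combination -this)).resolve_left t2
      ext <;> simp [e2]⟩, by rintro ⟨y, rfl⟩; exact al y⟩
  refine star_of_field (s := k + 1) (c := k) (o := o * ((Fintype.card F - 1) / 2))
    (ho.mul (Nat.odd_iff.2 (by omega))) ?_ pd _ (Or.inr ⟨rfl, rfl, fun ζ h => ?_⟩) ?_ Θ h1 h5
  · rw [Nat.card_congr (QuadraticAlgebra.equivProd (-1 : F) 0), Nat.card_prod,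
      Nat.card_eq_fintype_card, pow_succ, mul_assoc, mul_left_comm 2, ← mul_assoc, ← hk']
    obtain ⟨m, hm⟩ := hq
    rw [hm, Nat.add_sub_cancel, Nat.mul_div_cancel_left _ two_pos]
    ring
  · rw [hFr, ← pow_succ', hk', pow_mul, h, ho.neg_one_pow]
  · rw [cI]
    refine (show 3 ≤ n ∨ n = 2 by omega).imp_right fun h => ⟨h, ?_⟩
    rintro rfl
    have := h2 h
    have := Nat.odd_iff.1 ho
    omega

theorem psl_simple_perfect [Fintype F] {n : ℕ} (hn : 2 ≤ n)
    (h2 : n = 2 → Fintype.card F % 8 = 1 ∨ Fintype.card F % 8 = 7) :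
    IsSimpleGroup (ProjectiveSpecialLinearGroup (Fin n) F) ∧
      Group.IsPerfect (ProjectiveSpecialLinearGroup (Fin n) F) := by
  rcases hn.eq_or_lt with rfl | h
  swap
  · exact psl_simple (by rw [Fintype.card_fin]; exact h)
  have q1 : 1 < Fintype.card F := Fintype.one_lt_card
  have h4 : 4 ≤ Nat.card F := by
    have := h2 rfl
    rw [Nat.card_eq_fintype_card]
    omega
  have : ∃ a : F, a ≠ 0 ∧ a ^ 2 ≠ 1 := by
    obtain ⟨x, hx⟩ : IsCyclic Fˣ := inferInstance
    refine ⟨x, Units.ne_zero x, fun h ↦ ?_⟩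
    grw [Nat.card_eq_card_units_add_one F, ← orderOf_eq_card_of_forall_mem_zpowers hx,
      orderOf_le_of_pow_eq_one zero_lt_two (Units.ext <| by simpa using h)] at h4
    omega
  exact ⟨ProjectiveSpecialLinearGroup.rank_two_simple' this,
    ⟨SL2Simple.PSL_commutator_eq_top this⟩⟩

theorem center_eq_bot {Ω : Type*} [Group Ω] {U : Subgroup Ω} [Finite U] {D : FusionSystem U}
    [Finite L] [IsSimpleGroup L] [Group.IsPerfect L] {ι : U →* L} (hι : D.IsRealizedBy ι)
    {T : Sylow 2 L} (hT : (T : Subgroup L) = ι.range) : D.center = ⊥ := by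
  refine eq_bot_iff.2 fun x hx => ?_
  have hU := center_le D hx
  have hy : fn ι x ∈ (T : Subgroup L) := hT ▸ ⟨⟨x, hU⟩, (fn_apply ι hU).symm⟩
  have key := ZStar.zstar_wc T hy fun g hg => by
    obtain ⟨f, hf, e⟩ := Asch.exists_M_of_conj hι (Subgroup.zpowers_le.2 hU) (g := g) fun z hz => by
      obtain ⟨m, rfl⟩ := Subgroup.mem_zpowers_iff.1 hz
      rw [(homOn_fn ι).map_zpow hU, ← conj_zpow, ← hT]
      exact zpow_mem hg m
    rw [← e x (Subgroup.mem_zpowers x),
      isCentral_fix (isCentral_center D) hf (Subgroup.mem_zpowers x) hx]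
  have h1 : fn ι x = 1 := by
    rcases (inferInstance : (pPrimeCore 2 L).Normal).eq_bot_or_eq_top with h | h
    · have hc : fn ι x ∈ Subgroup.center L := Subgroup.mem_center_iff.2 fun g => by
        have := key g
        rw [h, Subgroup.mem_bot, mul_inv_eq_one, mul_inv_eq_iff_eq_mul] at this
        exact this.symm
      rcases (inferInstance : (Subgroup.center L).Normal).eq_bot_or_eq_top with h' | h'
      · rwa [h'] at hc
      · have := (commutator_eq_bot_iff_center_eq_top L).2 h'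
        rw [Group.IsPerfect.commutator_eq_top] at this
        exact absurd this top_ne_bot
    · obtain ⟨k, hk⟩ := Tr.isPGroup_iff_forall_mem.1 T.isPGroup' _ hy
      exact orderOf_eq_one_iff.1 (Nat.eq_one_of_dvd_coprimes
        ((Fit.pPrimeCore_eq_top_iff.1 h).pow_right k) (orderOf_dvd_natCard _)
        (orderOf_dvd_of_pow_eq_one hk))
  exact Asch.fn_inj hι.1 x hU 1 (one_mem U) (by rw [h1, (homOn_fn ι).map_one])

end Cfsg.Agent.LT
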