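import Cfsg.Agent.Lib.Fus.WeakEmb
import Cfsg.Agent.Lib.Asch.Cent2
import Cfsg.Agent.Lib.Asch.Model
import Cfsg.Agent.Lib.Asch.PPr
import Cfsg.Agent.Lib.Transfer.Frobenius

/-! A normal subsystem with trivial centralizer whose odd automorphisms are trivial is the whole
2-fusion system of a simple group. -/

set_option autoImplicit false
set_option linter.unusedSectionVars false

namespace Cfsg.Agent.LT

open Cfsg Cfsg.FusionSystem Cfsg.Agent.Fus2 Cfsg.Agent.Tr Subgroup

/-- `α` is an automorphism of odd order of `T` preserving the fusion in `L`. -/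
structure OddAut {L : Type*} [Group L] (T : Subgroup L) (α : L → L) : Prop where
  hom : HomOn T α
  mem : ∀ x ∈ T, α x ∈ T
  per : ∃ N, Odd N ∧ ∀ x ∈ T, α^[N] x = x
  fus : ∀ Q ≤ T, ∀ g : L, (∀ x ∈ Q, g * x * g⁻¹ ∈ T) →
    ∃ g' : L, ∀ x ∈ Q, α (g * x * g⁻¹) = g' * α x * g'⁻¹

/-- Fusion preserving automorphisms of odd order of a Sylow 2-subgroup are trivial. -/
def Star (L : Type*) [Group L] : Prop :=
  ∀ T : Subgroup L, SylowIn 2 T ⊤ → ∀ α, OddAut T α → ∀ x ∈ T, α x = x

theorem star_of_one {L : Type*} [Group L] [Finite L] {P : Subgroup L} (hP : SylowIn 2 P ⊤)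
    (h : ∀ α, OddAut P α → ∀ x ∈ P, α x = x) : Star L := by
  intro T hT α hα x hx
  obtain ⟨g, -, hg⟩ := hT.exists_cj_eq hP
  have m1 : ∀ y ∈ P, g * y * g⁻¹ ∈ T := fun y hy => hg ▸ conj_mem_cj.2 hy
  have m2 : ∀ y ∈ T, g⁻¹ * y * g ∈ P := fun y hy => by
    rw [← hg] at hy
    simpa using mem_cj.1 hy
  have key := h (fun y => g⁻¹ * α (g * y * g⁻¹) * g) ⟨fun a ha b hb => ?_,
    fun a ha => m2 _ (hα.mem _ (m1 a ha)), ?_, fun Q hQ k hk => ?_⟩ _ (m2 x hx)
  · simp only [mul_assoc, mul_inv_cancel_left, mul_inv_cancel, mul_one] at key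
    simpa [mul_assoc] using key
  · rw [show g * (a * b) * g⁻¹ = (g * a * g⁻¹) * (g * b * g⁻¹) by group,
      hα.hom _ (m1 a ha) _ (m1 b hb)]
    group
  · obtain ⟨N, hN, e⟩ := hα.per
    refine ⟨N, hN, fun y hy => ?_⟩
    have : ∀ n, (fun y => g⁻¹ * α (g * y * g⁻¹) * g)^[n] y = g⁻¹ * α^[n] (g * y * g⁻¹) * g := by
      intro n
      induction n with
      | zero => simp [mul_assoc]
      | succ n ih =>
        rw [Function.iterate_succ_apply', ih, Function.iterate_succ_apply']
        simp [mul_assoc]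
    rw [this, e _ (m1 y hy)]
    group
  · obtain ⟨k', hk'⟩ := hα.fus (cj g Q) (fun y hy => by
      have := m1 _ (hQ (mem_cj.1 hy))
      simpa [mul_assoc] using this) (g * k * g⁻¹) (fun y hy => by
      have := m1 _ (hk _ (mem_cj.1 hy))
      simpa [mul_assoc] using this)
    refine ⟨g⁻¹ * k' * g, fun y hy => ?_⟩
    have := hk' _ (conj_mem_cj.2 hy)
    rw [show g * k * g⁻¹ * (g * y * g⁻¹) * (g * k * g⁻¹)⁻¹ = g * (k * y * k⁻¹) * g⁻¹ by group] at this
    simp only [this]
    group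

theorem Star.of_equiv {L L' : Type*} [Group L] [Group L'] [Finite L] (h : Star L) (e : L ≃* L') :
    Star L' := by
  intro T hT α hα x hx
  have : Finite L' := Finite.of_equiv _ e.toEquiv
  have hT' := hT.map e.symm.toMonoidHom
  rw [map_top_of_surjective _ e.symm.surjective] at hT'
  have m : ∀ y, y ∈ T.map e.symm.toMonoidHom ↔ e y ∈ T := fun y =>
    ⟨by rintro ⟨z, hz, rfl⟩; simpa using hz, fun hy => ⟨e y, hy, by simp⟩⟩
  have key := h _ hT' (fun y => e.symm (α (e y))) ⟨fun a ha b hb => ?_,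
    fun a ha => (m _).2 (by simpa using hα.mem _ ((m a).1 ha)), ?_, fun Q hQ k hk => ?_⟩
    (e.symm x) ((m _).2 (by simpa using hx))
  · simpa using key
  · rw [map_mul, hα.hom _ ((m a).1 ha) _ ((m b).1 hb), map_mul]
  · obtain ⟨N, hN, eN⟩ := hα.per
    refine ⟨N, hN, fun y hy => ?_⟩
    have : ∀ n, (fun y => e.symm (α (e y)))^[n] y = e.symm (α^[n] (e y)) := by
      intro n
      induction n with
      | zero => simp
      | succ n ih =>
        rw [Function.iterate_succ_apply', ih, Function.iterate_succ_apply']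
        simp
    rw [this, eN _ ((m y).1 hy)]
    simp
  · obtain ⟨k', hk'⟩ := hα.fus (Q.map e.toMonoidHom) (by
      rintro _ ⟨y, hy, rfl⟩
      exact (m y).1 (hQ hy)) (e k) (by
      rintro _ ⟨y, hy, rfl⟩
      simpa using (m _).1 (hk y hy))
    refine ⟨e.symm k', fun y hy => ?_⟩
    have := hk' (e y) ⟨y, hy, rfl⟩
    simp only [map_mul, map_inv]
    rw [this]
    simp

variable {G L : Type*} [Group G] [Finite G] [Group L] [Finite L] {S : Sylow 2 G} {T : Subgroup G}
  {E : FusionSystem T} {ι : T →* L}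

theorem conj_iterate (g x : G) (n : ℕ) : (fun y => g * y * g⁻¹)^[n] x = g ^ n * x * (g ^ n)⁻¹ := by
  induction n with
  | zero => simp
  | succ n ih => rw [Function.iterate_succ_apply', ih, pow_succ']; group

theorem odd_cent (hL : Star L) (hE : InvM E (groupFusionSystem (S : Subgroup G)))
    (hι : E.IsRealizedBy ι) (hT : SylowIn 2 ι.range ⊤) {g : G}
    (hg : g ∈ normalizer (T : Set G)) (ho : (orderOf g).Coprime 2) :
    g ∈ centralizer (T : Set G) := by
  obtain ⟨b, hb⟩ := exists_gIso (homOn_fn ι) (Asch.fn_inj hι.1) (img_fn ι)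
  have hgT : ∀ x ∈ T, g * x * g⁻¹ ∈ T := fun x hx => (mem_normalizer_iff.1 hg x).1 hx
  have hM : M (groupFusionSystem (S : Subgroup G)) T (fun x => g * x * g⁻¹) :=
    M_group_iff.2 ⟨hE.le, fun x hx => hE.le (hgT x hx), g, fun _ _ => rfl⟩
  have hi : img T (fun x => g * x * g⁻¹) = T := hM.img_eq_self hgT
  have key := hL _ hT (fun y => fn ι (g * b y * g⁻¹)) ⟨fun x hx y hy => ?_,
    fun x hx => hb.mem _ (hgT _ (hb.mem' x hx)), ⟨orderOf g, ?_, fun x hx => ?_⟩,
    fun Q hQ k hk => ?_⟩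
  · rw [mem_centralizer_iff]
    intro x hx
    have := key _ (hb.mem x hx)
    simp only [hb.left x hx] at this
    have := hb.inj _ (hgT x hx) _ hx this
    exact (mul_inv_eq_iff_eq_mul.1 this).symm
  · rw [hb.hom' x hx y hy, ← hb.hom _ (hgT _ (hb.mem' x hx)) _ (hgT _ (hb.mem' y hy))]
    congr 1
    group
  · exact Nat.coprime_two_right.1 ho
  · have : ∀ n, (fun y => fn ι (g * b y * g⁻¹))^[n] x = fn ι (g ^ n * b x * (g ^ n)⁻¹) := by
      intro n
      induction n with
      | zero => simp [hb.right x hx]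
      | succ n ih =>
        have h1 : g ^ n * b x * (g ^ n)⁻¹ ∈ T :=
          (mem_normalizer_iff.1 (pow_mem hg n) _).1 (hb.mem' x hx)
        rw [Function.iterate_succ_apply', ih, hb.left _ h1, pow_succ']
        congr 1
        group
    rw [this, pow_orderOf_eq_one]
    simp [hb.right x hx]
  · have hQ' : img Q b ≤ T := hb.symm.img_le hQ
    have hm : ∀ x ∈ img Q b, fn ι x ∈ Q := fun x hx => ((hb.symm.mem_img hQ).1 hx).2
    obtain ⟨f, hf, ef⟩ := Asch.exists_M_of_conj hι hQ' (g := k) fun x hx => hk _ (hm x hx)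
    obtain ⟨f', hf', ef'⟩ := hE.conj _ f hf _ hM hi
    obtain ⟨-, -, k', hk'⟩ := (Asch.M_iff_of_realized hι).1 hf'
    refine ⟨k', fun x hx => ?_⟩
    have hx' : b x ∈ img Q b := mem_img_of_mem b hx
    have e1 := ef _ hx'
    rw [hb.right x (hQ hx)] at e1
    have e2 := hk' _ (mem_img_of_mem (fun x => g * x * g⁻¹) hx')
    rw [ef' _ hx'] at e2
    rw [← e2, ← e1, hb.left _ (hf.mem hx')]

theorem red [IsSimpleGroup G] (hG : ¬ IsMulCommutative G) (hL : Star L)
    (hE : E.IsNormalIn (groupFusionSystem (S : Subgroup G)) 2)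
    (hι : E.IsRealizedBy ι) (hT : ∃ T' : Sylow 2 L, (T' : Subgroup L) = ι.range)
    (hC : ∀ Y : Subgroup G, Y ≤ centralizerIn (S : Subgroup G) T →
      (∀ P : Subgroup G, E.Hom P ⊆ (groupFusionSystem (S : Subgroup G)).centralizerHom Y P) →
      Y = ⊥) :
    ∃ ι : ↥(S : Subgroup G) →* L, (groupFusionSystem (S : Subgroup G)).IsRealizedBy ι ∧
      ∃ T' : Sylow 2 L, (T' : Subgroup L) = ι.range := by
  have hS := S.isPGroup'
  have hI := invM_of_isNormalIn hE
  have hT' : SylowIn 2 ι.range ⊤ := by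
    obtain ⟨T', e⟩ := hT
    exact e ▸ SylowIn.top T'
  have ha := fun g hg ho => odd_cent hL hI hι hT' (g := g) hg ho
  have hSN : (S : Subgroup G) ≤ normalizer (T : Set G) := sc_le_normalizer hI.sc
  have hSyl := SylowIn.of_sylow_le S hSN
  -- trivial fusion in the centralizer
  have hn := Asch.isNormalIn_iff.1 hE
  have hD := isCentralizerSystem_centralizerSystem (groupFusionSystem (S : Subgroup G)) hI.le
  have hfoc := hn.foc_le_cenE hS hD
  rw [hC _ Asch.cenE_le (Asch.cent_iff.2 (hn.cent_cenE hS))] at hfoc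
  have hb : ∀ x ∈ (S : Subgroup G), x ∈ centralizer (T : Set G) → ∀ c ∈ centralizer (T : Set G),
      c * x * c⁻¹ ∈ (S : Subgroup G) → c * x * c⁻¹ = x := by
    intro x hx hxc c hc hcx
    have h1 : zpowers x ≤ centralizerIn (S : Subgroup G) T := zpowers_le.2 ⟨hx, hxc⟩
    have h2 : ∀ t ∈ T, c * t * c⁻¹ = t := fun t ht => by
      rw [← mem_centralizer_iff.1 hc t ht]; group
    have h3 : M (groupFusionSystem (S : Subgroup G)) (zpowers x ⊔ T) (fun y => c * y * c⁻¹) := by
      refine M_group_iff.2 ⟨sup_le (zpowers_le.2 hx) hI.le, ?_, c, fun _ _ => rfl⟩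
      refine (homOn_conj _ c).mem_of_sup (fun y hy => ?_) fun y hy => by rw [h2 y hy]; exact hI.le hy
      obtain ⟨n, rfl⟩ := mem_zpowers_iff.1 hy
      rw [← conj_zpow]
      exact zpow_mem hcx n
    have h4 := mem_foc ((M_centralizer_iff hD (f := fun y => c * y * c⁻¹)).2
      ⟨h1, _, h3, fun _ _ => rfl, h2⟩) (mem_zpowers x)
    have := mem_bot.1 (hfoc h4)
    exact (inv_mul_eq_one.1 this).symm
  set O := pResIn 2 (centralizer (T : Set G)) with hO
  have hNC : normalizer (T : Set G) ≤ normalizer (centralizer (T : Set G) : Set G) :=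
    normalizer_le_normalizer_centralizer T
  have hNO : normalizer (T : Set G) ≤ normalizer (O : Set G) :=
    hNC.trans (normalizer_le_normalizer_pResIn _)
  have hOC : O ≤ centralizer (T : Set G) := pResIn_le _
  have hSO : (S : Subgroup G) ⊓ O ≤ ⊥ := by
    have h1 := hSyl.inf_of_le_normalizer (hOC.trans (centralizer_le_normalizer _)) (hSN.trans hNO)
    refine h1.le_of_fusion_of_pResIn_eq (pResIn_pResIn _) fun x hx g hg hgx => ?_
    rw [hb x hx.1 (hOC hx.2) g (hOC hg) hgx.1]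
    simp
  -- the hyperfocal subgroup
  have hres : pResidual 2 G = ⊤ := by
    have := pResidual_normal 2 G
    refine (this.eq_bot_or_eq_top).resolve_left fun h => hG ?_
    have hp := pResidual_eq_bot_iff.1 h
    have := hp.isNilpotent
    exact ⟨⟨IsSimpleGroup.comm_iff_isSolvable.2 inferInstance⟩⟩
  have hST : (S : Subgroup G) ≤ T := by
    have := Fus.hyp_le_of_sc_of_aut hS (Fus.group_isSaturated S) hI.sc fun V hV hTV α hα => ?_
    · rwa [hyp_group_eq, hres, inf_top_eq] at this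
    obtain ⟨-, -, g, hg⟩ := M_group_iff.1 (Fus.M_afn hV hα)
    have hgN : g ∈ normalizer (T : Set G) := by
      have hM := Fus.M_afn hV hα
      have e := hM.img_eq_of_sc hI.sc hTV
      rw [img_congr (g := MulAut.conj g) (fun x hx => hg x (hTV hx))] at e
      rw [← cj_eq_iff]
      exact (img_hom T (MulAut.conj g).toMonoidHom).symm.trans e
    obtain ⟨n, hn⟩ : ∃ n, (orderOf (g ^ 2 ^ n)).Coprime 2 := by
      obtain ⟨n, m, hm, e⟩ := Nat.exists_eq_two_pow_mul_odd (orderOf_pos g).ne'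
      refine ⟨n, ?_⟩
      rw [orderOf_pow' _ (by positivity), e, Nat.gcd_mul_right_left,
        Nat.mul_div_cancel_left _ (by positivity)]
      exact Nat.coprime_two_right.2 hm
    have h1 := mem_pResIn_of_coprime (ha _ (pow_mem hgN _) hn) hn
    refine ⟨n, aut_ext fun x hx => ?_⟩
    have h2 : ∀ m, afn (α ^ m) x = g ^ m * x * (g ^ m)⁻¹ := by
      intro m
      induction m with
      | zero => simp
      | succ m ih =>
        rw [pow_succ', afn_mul, hg _ (afn_mem _ hx), ih, pow_succ']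
        group
    have h3 : afn (α ^ 2 ^ n) x * x⁻¹ ∈ (S : Subgroup G) ⊓ O := by
      refine mem_inf.2 ⟨hV (mul_mem (afn_mem _ hx) (inv_mem hx)), ?_⟩
      rw [h2]
      have := (mem_normalizer_iff.1 (hNO (hSN (hV hx))) _).1 (inv_mem h1)
      have := O.mul_mem h1 this
      rwa [← mul_assoc, ← mul_assoc] at this
    rw [afn_one]
    exact mul_inv_eq_one.1 (mem_bot.1 (hSO h3))
  obtain rfl : T = S := le_antisymm hI.le hST
  refine ⟨ι, Asch.isRealizedBy_of_M hι.1 fun P f hP hf => ?_, hT⟩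
  have e : M (groupFusionSystem (S : Subgroup G)) P f ↔ M E P f := by
    refine ⟨fun h => ?_, hI.sub P f⟩
    obtain ⟨a, f₀, ha', hi, hf₀, e⟩ := hI.frattini P f hP h
    obtain ⟨-, -, g, hg⟩ := M_group_iff.1 ha'
    have hgN : g ∈ normalizer ((S : Subgroup G) : Set G) := by
      rw [img_congr (g := MulAut.conj g) hg] at hi
      rw [← cj_eq_iff]
      exact (img_hom _ (MulAut.conj g).toMonoidHom).symm.trans hi
    obtain ⟨s, hs, c, hc, rfl⟩ := (mem_sup_of_le_normalizer (le_normalizer.trans hNC)).1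
      (normalizer_le_sup_of_coprime hSyl ha hgN)
    refine (hf₀.comp (M_conj E le_rfl hs) fun x hx => hf₀.mem hx).congr fun x hx => ?_
    rw [e x hx, hg _ (hf₀.mem hx), mul_assoc s c, ← mem_centralizer_iff.1 hc _ (hf₀.mem hx)]
    group
  rw [e, Asch.M_iff_of_realized hι]
  exact ⟨fun h => h.2.2, fun h => ⟨hP, hf, h⟩⟩

end Cfsg.Agent.LT
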