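import Cfsg.Agent.Lib.LT.Perm

/-! Exponent vectors of the 2-part of a maximal torus of `SL_n(q)`. -/

set_option autoImplicit false
set_option linter.unusedSectionVars false

namespace Cfsg.Agent.LT

open Equiv Equiv.Perm Finset

/-- Arithmetic and combinatorial data of the torus. -/
structure AD (I R : Type*) [Fintype I] [DecidableEq I] [CommRing R] where
  φ : Perm I
  σ : Perm I
  W : Subgroup (Perm I)
  j : R
  u : R
  r : R
  c : ℕ
  pd : PD φ W
  j4 : 4 * j = 0
  j2 : 2 * j ≠ 0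
  inv : ∀ x : R, 2 * x = 0 → x = 0 ∨ x = 2 * j
  nat : ∀ x : R, ∃ n : ℕ, x = n
  ju : j = 2 ^ c * u
  case : (σ = 1 ∧ r = 1 ∧ u = 1) ∨ (σ = φ ∧ r = 2 * j - 1 ∧ u = 2)
  big : 3 ≤ Fintype.card I ∨ (Fintype.card I = 2 ∧ c ≠ 0)

variable {I R : Type*} [Fintype I] [DecidableEq I] [CommRing R]

/-- Constant vectors. -/
def Cst (a : I → R) : Prop := ∀ p q, a p = a q

/-- The vector with `s` at `i` and `-s` at `l`. -/
def E (i l : I) (s : R) : I → R := fun p => (if p = i then s else 0) - if p = l then s else 0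

theorem ns_apply (n : ℕ) (a : I → R) (p : I) : (n • a) p = n * a p := by simp

theorem sum_E (i l : I) (s : R) : ∑ p, E i l s p = 0 := by simp [E]

theorem E_left {i l : I} (h : i ≠ l) (s : R) : E i l s i = s := by simp [E, h]
theorem E_right {i l : I} (h : i ≠ l) (s : R) : E i l s l = -s := by simp [E, h.symm]
theorem E_ne {i l p : I} (h : p ≠ i) (h' : p ≠ l) (s : R) : E i l s p = 0 := by simp [E, h, h']

theorem exists_third (h : 3 ≤ Fintype.card I) (i l : I) : ∃ m, m ≠ i ∧ m ≠ l := by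
  by_contra! hk
  have := card_le_card (s := univ) (t := {i, l}) fun k _ => by
    by_cases e : k = i
    · simp [e]
    · simp [hk k e]
  have h2 := card_le_two (a := i) (b := l)
  rw [card_univ] at this
  omega

theorem two_pts (h : Fintype.card I = 2) {i l : I} (hil : i ≠ l) (p : I) : p = i ∨ p = l := by
  have : ({i, l} : Finset I) = univ := eq_univ_of_card _ (by rw [card_pair hil, h])
  have h2 : p ∈ ({i, l} : Finset I) := this ▸ mem_univ p
  simpa using h2

theorem sum_two (h : Fintype.card I = 2) {i l : I} (hil : i ≠ l) (f : I → R) :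
    ∑ p, f p = f i + f l := by
  have : ({i, l} : Finset I) = univ := eq_univ_of_card _ (by rw [card_pair hil, h])
  rw [← this, sum_pair hil]

namespace AD

variable (D : AD I R)

/-- The split case. -/
def one : Prop := D.σ = 1 ∧ D.r = 1 ∧ D.u = 1
/-- The twisted case. -/
def two : Prop := D.σ = D.φ ∧ D.r = 2 * D.j - 1 ∧ D.u = 2

/-- Exponent vectors of the torus. -/
def Tor (a : I → R) : Prop := (∀ p, a (D.σ p) = D.r * a p) ∧ ∑ p, a p = 0

/-- Permutations commuting with the twist. -/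
def Cs (v : Perm I) : Prop := ∀ p, v (D.σ p) = D.σ (v p)

/-- Pairs supporting a reflection. -/
def Pr (i l : I) : Prop := i ≠ l ∧ (D.one ∨ l = D.φ i)

/-- The four point configuration. -/
def Four (i l : I) : Prop := D.φ i ≠ i ∧ D.φ l ≠ l ∧ l ≠ i ∧ l ≠ D.φ i ∧
  ∀ p, p = i ∨ p = D.φ i ∨ p = l ∨ p = D.φ l

theorem cases : D.one ∨ D.two := D.case

theorem φφ (p : I) : D.φ (D.φ p) = p := D.pd.φφ p

theorem φ_eq {p q : I} : D.φ p = q ↔ p = D.φ q :=
  ⟨fun h => by rw [← h, D.φφ], fun h => by rw [h, D.φφ]⟩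

variable {D}

theorem Tor.add {a b : I → R} (ha : D.Tor a) (hb : D.Tor b) : D.Tor (a + b) :=
  ⟨fun p => by simp [ha.1, hb.1, mul_add], by simp [sum_add_distrib, ha.2, hb.2]⟩

theorem Tor.mul {a : I → R} (ha : D.Tor a) (s : R) : D.Tor fun p => s * a p :=
  ⟨fun p => by simp only [ha.1]; ring, by rw [← mul_sum, ha.2, mul_zero]⟩

theorem Tor.neg {a : I → R} (ha : D.Tor a) : D.Tor (-a) := by
  convert ha.mul (-1) using 1
  ext; simp

theorem Tor.sub {a b : I → R} (ha : D.Tor a) (hb : D.Tor b) : D.Tor (a - b) :=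
  sub_eq_add_neg a b ▸ ha.add hb.neg

theorem Tor.nsmul {a : I → R} (ha : D.Tor a) (n : ℕ) : D.Tor (n • a) := by
  convert ha.mul n using 1
  ext; simp

theorem tor_zero : D.Tor 0 := ⟨by simp, by simp⟩

theorem Tor.comp {a : I → R} (ha : D.Tor a) {v : Perm I} (hv : D.Cs v) : D.Tor fun p => a (v p) :=
  ⟨fun p => by simp only [hv p, ha.1], by rw [Equiv.sum_comp v a, ha.2]⟩

theorem Cs.inv {v : Perm I} (hv : D.Cs v) : D.Cs v⁻¹ := fun p => by
  rw [Perm.inv_eq_iff_eq, hv]; simp

theorem Cs.mul {v w : Perm I} (hv : D.Cs v) (hw : D.Cs w) : D.Cs (v * w) := fun p => by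
  simp only [Perm.mul_apply]; rw [hw, hv]

theorem cs_one : D.Cs 1 := fun _ => rfl

theorem cs_of_comm {v : Perm I} (h : ∀ p, v (D.φ p) = D.φ (v p)) : D.Cs v := by
  rcases D.cases with h1 | h2
  · simp [Cs, h1.1]
  · simpa [Cs, h2.1] using h

theorem cs_W {v : Perm I} (h : v ∈ D.W) : D.Cs v := cs_of_comm (D.pd.comm v h)

theorem two.comm (h : D.two) {v : Perm I} (hv : D.Cs v) (p : I) : v (D.φ p) = D.φ (v p) := by
  simpa [h.1] using hv p

theorem j0 : D.j ≠ 0 := fun h => D.j2 (by simp [h])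

theorem u2 : 2 * D.u ≠ 0 := fun h => D.j2 (by rw [D.ju]; linear_combination 2 ^ D.c * h)

theorem u4 (h : 4 * D.u = 0) : D.c = 0 := by
  by_contra hc
  obtain ⟨k, hk⟩ := Nat.exists_eq_succ_of_ne_zero hc
  exact D.j2 (by rw [D.ju, hk, pow_succ]; linear_combination 2 ^ k * h)

theorem ju0 (h : D.c = 0) : D.u = D.j := by simp [D.ju, h]

theorem two_pow : (2 : R) ^ (D.c + 3) = 0 := by
  have h4 := D.j4
  rw [D.ju] at h4
  rcases D.cases with h | h
  · rw [h.2.2] at h4; linear_combination 2 * h4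
  · rw [h.2.2] at h4; linear_combination h4

theorem even_or_odd (D : AD I R) (x : R) : ∃ t, x = 2 * t ∨ x = 2 * t + 1 := by
  obtain ⟨n, rfl⟩ := D.nat x
  obtain ⟨k, rfl | rfl⟩ := Nat.even_or_odd' n
  · exact ⟨k, Or.inl (by simp)⟩
  · exact ⟨k, Or.inr (by simp)⟩

theorem odd_cancel (D : AD I R) {x t : R} (h : x * (2 * t + 1) = 0) : x = 0 := by
  have h1 : IsNilpotent (2 * t) := ⟨D.c + 3, by rw [mul_pow, two_pow, zero_mul]⟩
  exact (h1.isUnit_add_one.mul_left_eq_zero).1 h

theorem even_of {x : R} (h : 2 * D.j * x = 0) : ∃ t, x = 2 * t := by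
  obtain ⟨t, rfl | rfl⟩ := D.even_or_odd x
  · exact ⟨t, rfl⟩
  · exact absurd (D.odd_cancel h) D.j2

theorem two.jj (h : D.two) : 2 * D.j * D.j = 0 := by
  have := D.j4
  nth_rewrite 2 [D.ju]
  rw [h.2.2]
  linear_combination 2 ^ D.c * this

theorem two.rr (h : D.two) : D.r * D.r = 1 := by
  rw [h.2.1]; linear_combination (D.j - 1) * D.j4

theorem pr_φ {i : I} (h : D.φ i ≠ i) : D.Pr i (D.φ i) := ⟨h.symm, Or.inr rfl⟩

theorem tor_E {i l : I} (h : D.Pr i l) (t : R) : D.Tor (E i l (D.u * t)) := by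
  refine ⟨fun p => ?_, sum_E _ _ _⟩
  rcases D.cases with h1 | h2
  · simp [h1.1, h1.2.1]
  rcases h.2 with h1 | rfl
  · simp [h1.1, h1.2.1]
  have e : D.r * (D.u * t) = -(D.u * t) := by
    rw [h2.2.1, h2.2.2]; linear_combination t * D.j4
  simp only [h2.1, E, D.φ_eq, D.φφ, mul_sub, mul_ite, e, mul_zero]
  split_ifs <;> simp

theorem tor_Ej {i l : I} (h : D.Pr i l) : D.Tor (E i l D.j) := by
  have := tor_E h (2 ^ D.c)
  rwa [mul_comm, ← D.ju] at this

theorem tor_Eu {i l : I} (h : D.Pr i l) : D.Tor (E i l D.u) := by simpa using tor_E h 1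

variable (D) in
/-- A vector of norm `-1` in the twisted case. -/
def b (i : I) : I → R := fun p =>
  if D.φ i = i then (if p = i then 2 * D.j else 0)
  else (if p = i then 1 else 0) + if p = D.φ i then D.r else 0

theorem two.b_σ (h : D.two) (i p : I) : D.b i (D.σ p) = D.r * D.b i p := by
  have e : D.r * (2 * D.j) = 2 * D.j := by rw [h.2.1]; linear_combination (D.j - 1) * D.j4
  simp only [b, h.1, D.φ_eq (p := p), D.φφ]
  by_cases hi : D.φ i = i
  · simp [hi, e]
  · simp only [hi, if_false, mul_add, mul_ite, h.rr, mul_zero, mul_one]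
    exact add_comm _ _

theorem two.sum_b (h : D.two) (i : I) : ∑ p, D.b i p = 2 * D.j := by
  by_cases hi : D.φ i = i
  · simp [b, hi]
  · simp [b, hi, sum_add_distrib, h.2.1]

theorem b_ne {i p : I} (h : p ≠ i) (h' : p ≠ D.φ i) : D.b i p = 0 := by simp [b, h, h']
theorem b_left {i : I} (h : D.φ i ≠ i) : D.b i i = 1 := by simp [b, h, h.symm]
theorem b_right {i : I} (h : D.φ i ≠ i) : D.b i (D.φ i) = D.r := by simp [b, h]

theorem two.tor_b (h : D.two) (i l : I) {s t : R} (e : 2 * D.j * (s + t) = 0) :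
    D.Tor fun p => s * D.b i p + t * D.b l p :=
  ⟨fun p => by simp only [h.b_σ]; ring, by
    rw [sum_add_distrib, ← mul_sum, ← mul_sum, h.sum_b, h.sum_b]; linear_combination e⟩

theorem exG {i i' m m' : I} (h : D.Pr i i') (h1 : m ≠ i) (h2 : m ≠ i')
    (h3 : D.one ∨ m' = D.φ m) : ∃ G, D.Tor G ∧ G i - G i' = D.u ∧
      (∀ p, p ≠ i → p ≠ i' → p ≠ m → p ≠ m' → G p = 0) ∧
      (m' ≠ i → m' ≠ i' → m' ≠ m → 2 ^ (D.c + 1) * (G m - G m') = 2 * D.j) := by
  by_cases ho : D.one
  · refine ⟨_, tor_Eu ⟨h1.symm, Or.inl ho⟩, ?_, fun p a _ b _ => E_ne a b _, fun a _ b => ?_⟩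
    · rw [E_left h1.symm, E_ne h.1.symm h2.symm, sub_zero]
    · rw [E_right h1.symm, E_ne a b]
      have := D.j4
      rw [D.ju] at this ⊢
      linear_combination -this
  have ht := D.cases.resolve_left ho
  obtain rfl := h.2.resolve_left ho
  obtain rfl := h3.resolve_left ho
  have hi := h.1.symm
  have n1 : i ≠ D.φ m := fun e => h2 (D.φ_eq.1 e.symm)
  have n2 : D.φ i ≠ D.φ m := D.φ.injective.ne h1.symm
  refine ⟨_, ht.tor_b i m (s := 1 + D.j) (t := 1 + D.j) (by
    linear_combination (1 + D.j) * D.j4), ?_, fun p a b c d => by simp [b_ne, *], fun _ _ a => ?_⟩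
  · rw [b_left hi, b_right hi, b_ne h1.symm n1, b_ne h2.symm n2, ht.2.1, ht.2.2]
    linear_combination -ht.jj
  · rw [b_left a, b_right a, b_ne h1 h2, b_ne n1.symm n2.symm, ht.2.1]
    have e := D.ju
    rw [ht.2.2] at e
    linear_combination (-2) * e - 2 ^ (D.c + 1) * ht.jj

theorem two_φ (h : Fintype.card I = 2) (i : I) : D.φ i ≠ i := by
  have : Nontrivial I := Fintype.one_lt_card_iff_nontrivial.1 (by omega)
  obtain ⟨l, hl⟩ := exists_ne i
  intro e
  rcases two_pts h hl (D.φ l) with e' | e'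
  · exact hl (D.pd.fix _ _ e' e)
  · exact hl (D.φ.injective (e'.trans e.symm))

theorem c_ne (h : Fintype.card I = 2) : D.c ≠ 0 := (D.big.resolve_left (by omega)).2

theorem sep {i l : I} (h : i ≠ l) : ∃ a, D.Tor a ∧ a i ≠ a l := by
  wlog hi : D.φ i ≠ i generalizing i l
  · obtain ⟨a, h1, h2⟩ := this h.symm fun e => h (D.pd.fix _ _ (not_not.1 hi) e)
    exact ⟨a, h1, h2.symm⟩
  refine ⟨_, tor_Ej (pr_φ hi), ?_⟩
  rw [E_left hi.symm]
  by_cases e : l = D.φ i
  · rw [e, E_right hi.symm]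
    exact fun e => D.j2 (by linear_combination e)
  · rw [E_ne h.symm e]
    exact j0

/-- The Weyl group acts faithfully. -/
theorem faithful {v : Perm I} (hv : D.Cs v)
    (h : ∀ a, D.Tor a → Cst fun p => a (v p) - a p) : v = 1 := by
  by_contra hne
  obtain ⟨i, hi⟩ : ∃ i, v i ≠ i := by
    by_contra! h
    exact hne (Perm.ext h)
  have hl : v (v i) ≠ v i := v.injective.ne hi
  rcases D.big with h3 | ⟨h2, hc⟩
  swap
  · have hφ := two_φ (D := D) h2 i
    have e1 : v i = D.φ i := (two_pts h2 hφ.symm _).resolve_left hi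
    have e2 : v (D.φ i) = i := (two_pts h2 hφ.symm _).resolve_right (e1 ▸ hl)
    have := h _ (tor_Eu (pr_φ hφ)) i (D.φ i)
    simp only [e1, e2, E_left hφ.symm, E_right hφ.symm] at this
    exact hc (u4 (by linear_combination -this))
  rcases D.cases with h1 | h2
  · obtain ⟨m, m1, m2⟩ := exists_third h3 i (v i)
    have := h _ (tor_Ej ⟨m2.symm, Or.inl h1⟩) i (v i)
    simp only [E_left m2.symm, E_ne hi.symm m1.symm] at this
    by_cases e : v (v i) = m
    · rw [e, E_right m2.symm] at this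
      exact j0 (by linear_combination D.j4 - this)
    · rw [E_ne hl e] at this
      exact D.j2 (by linear_combination this)
  have hφ : D.φ i ≠ i := fun e => hi (D.pd.fix _ _ (by rw [← h2.comm hv, e]) e)
  by_cases e : v i = D.φ i
  · obtain ⟨m, m1, m2⟩ := exists_third h3 i (D.φ i)
    obtain ⟨G, hG, e1, -⟩ := exG (pr_φ hφ) m1 m2 (Or.inr rfl)
    have := h _ hG i (D.φ i)
    simp only [h2.comm hv, e, D.φφ] at this
    exact u2 (D := D) (by linear_combination -this - 2 * e1)
  · have hφ' : D.φ (v i) ≠ v i := by rw [← h2.comm hv]; exact v.injective.ne hφ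
    have := h _ (tor_Ej (pr_φ hφ')) i (D.φ i)
    simp only [h2.comm hv, E_left hφ'.symm, E_right hφ'.symm] at this
    rw [E_ne hi.symm (fun e' => e (D.φ_eq.1 e'.symm)),
      E_ne (Ne.symm e) (D.φ.injective.ne hi.symm)] at this
    exact D.j2 (by linear_combination this)

/-- Elements acting quadratically. -/
theorem quad {v : Perm I} (hv : ∀ p, v (D.φ p) = D.φ (v p)) (hne : v ≠ 1)
    (h : ∀ a, D.Tor a → Cst fun p => a (v (v p)) - 2 * a (v p) + a p) :
    (∀ p, v (v p) = p) ∧ (Fintype.card I = 2 ∨ D.c = 0 ∧ (∀ p, v p ≠ p) ∧ ∃ i l, D.Four i l) := by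
  by_cases hA : ∃ i, v i ≠ i ∧ v i ≠ D.φ i
  · obtain ⟨i, h1, h2⟩ := hA
    have hφ : D.φ i ≠ i := fun e => h1 (D.pd.fix _ _ (by rw [← hv, e]) e)
    have hφ' : D.φ (v i) ≠ v i := by rw [← hv]; exact v.injective.ne hφ
    have n1 : v (v i) ≠ v i := v.injective.ne h1
    have n2 : v (v i) ≠ D.φ (v i) := by rw [← hv]; exact v.injective.ne h2
    have n3 : i ≠ D.φ (v i) := fun e => h2 (D.φ_eq.1 e.symm)
    have k := h _ (tor_Eu (pr_φ hφ'))
    have k1 : ∀ p, E (v i) (D.φ (v i)) D.u (v (v p)) - 2 * E (v i) (D.φ (v i)) D.u (v p) +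
        E (v i) (D.φ (v i)) D.u p = -2 * D.u := fun p => by
      have := k p i
      simp only [E_left hφ'.symm, E_ne n1 n2, E_ne h1.symm n3] at this
      linear_combination this
    have k2 := k1 (D.φ i)
    rw [hv, hv, E_right hφ'.symm, E_ne (fun e => n2 (D.φ_eq.1 e)) (D.φ.injective.ne n1),
      E_ne h2.symm (D.φ.injective.ne h1.symm)] at k2
    have hc := u4 (D := D) (by linear_combination k2)
    have k3 := k1 (v i)
    rw [E_ne n1 n2, E_left hφ'.symm] at k3
    have e3 : v (v i) = i := by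
      by_contra e
      have e' : v (v (v i)) ≠ v i := v.injective.ne e
      rw [ju0 hc] at k3
      by_cases e'' : v (v (v i)) = D.φ (v i)
      · rw [e'', E_right hφ'.symm] at k3
        exact D.j2 (by linear_combination k3)
      · rw [E_ne e' e''] at k3
        exact j0 (by linear_combination D.j4 - k3)
    have cov : ∀ p, p = i ∨ p = D.φ i ∨ p = v i ∨ p = D.φ (v i) := fun p => by
      by_contra! hp
      have := k1 p
      rw [E_ne hp.2.2.1 hp.2.2.2, E_ne (v.injective.ne hp.1) (by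
        rw [← hv]; exact v.injective.ne hp.2.1), E_ne (v.injective.ne (by
        rw [← e3]; exact v.injective.ne hp.2.2.1)) (by
        rw [← hv]; refine v.injective.ne ?_
        rw [← e3, ← hv]; exact v.injective.ne hp.2.2.2)] at this
      exact u2 (by linear_combination this)
    refine ⟨fun p => ?_, Or.inr ⟨hc, fun p => ?_, i, v i, hφ, hφ', h1, h2, cov⟩⟩
    · rcases cov p with rfl | rfl | rfl | rfl <;> simp only [hv, e3]
    · rcases cov p with rfl | rfl | rfl | rfl
      exacts [h1, hv _ ▸ D.φ.injective.ne h1, n1, by rw [hv]; exact D.φ.injective.ne n1]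
  push Not at hA
  have vv : ∀ p, v (v p) = p := fun p => by
    by_cases e : v p = p
    · rw [e, e]
    · rw [hA p e, hv, hA p e, D.φφ]
  refine ⟨vv, ?_⟩
  rcases D.big with h3 | ⟨h2, -⟩
  swap
  · exact Or.inl h2
  obtain ⟨i, hi⟩ : ∃ i, v i ≠ i := by
    by_contra! h
    exact hne (Perm.ext h)
  have e := hA i hi
  have hφ : D.φ i ≠ i := e ▸ hi
  obtain ⟨m, m1, m2⟩ := exists_third h3 i (D.φ i)
  have k := h _ (tor_Eu (pr_φ hφ)) i m
  simp only [vv] at k
  simp only [e, E_left hφ.symm, E_right hφ.symm, E_ne m1 m2] at k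
  rw [E_ne (p := v m) (by rw [← vv i, e]; exact v.injective.ne m2)
    (by rw [← e]; exact v.injective.ne m1)] at k
  have hc := u4 (D := D) (by linear_combination k)
  obtain ⟨G, hG, e1, e2, -⟩ := exG (pr_φ hφ) m1 m2 (Or.inr rfl)
  have k1 : ∀ p, 2 * (G p - G (v p)) = 2 * D.u := fun p => by
    have := h _ hG p i
    simp only [vv] at this
    rw [e] at this
    linear_combination this + 2 * e1
  have k2 : ∀ p, v p ≠ p := fun p hp => u2 (by rw [← k1 p, hp]; simp)
  refine Or.inr ⟨hc, k2, i, m, hφ, hA m (k2 m) ▸ k2 m, m1, m2, fun p => ?_⟩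
  by_contra! hp
  have := k1 p
  rw [hA p (k2 p), e2 p hp.1 hp.2.1 hp.2.2.1 hp.2.2.2, e2 _ (fun e => hp.2.1 (D.φ_eq.1 e))
    (D.φ.injective.ne hp.1) (fun e => hp.2.2.2 (D.φ_eq.1 e)) (D.φ.injective.ne hp.2.2.1)] at this
  exact u2 (by linear_combination -this)

theorem Four.sum {i l : I} (h : D.Four i l) (f : I → R) :
    ∑ p, f p = f i + f (D.φ i) + f l + f (D.φ l) := by
  obtain ⟨h1, h2, h3, h4, h5⟩ := h
  have n1 : D.φ l ≠ i := fun e => h4 (D.φ_eq.1 e)
  have n2 : D.φ l ≠ D.φ i := D.φ.injective.ne h3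
  have : (univ : Finset I) = {i, D.φ i, l, D.φ l} := by
    ext p; simpa using h5 p
  rw [this, sum_insert (by simp [h1.symm, h3.symm, n1.symm]),
    sum_insert (by simp [h4.symm, n2.symm]), sum_pair h2.symm]
  ring

theorem tor_two (h : Fintype.card I = 2) {a : I → R} (ha : D.Tor a) (i : I) :
    a (D.φ i) = -a i ∧ ∃ t, a i = D.u * t := by
  have e := ha.2
  rw [sum_two h (two_φ (D := D) h i).symm] at e
  refine ⟨by linear_combination e, ?_⟩
  rcases D.cases with h1 | h2
  · exact ⟨a i, by simp [h1.2.2]⟩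
  · have := ha.1 i
    rw [h2.1, h2.2.1] at this
    rw [h2.2.2]
    exact even_of (D := D) (by linear_combination e - this)

/-- In the exceptional cases involutions of the torus are squares. -/
theorem omega (h : Fintype.card I = 2 ∨ D.c = 0 ∧ ∃ i l, D.Four i l) {a : I → R} (ha : D.Tor a)
    (h2 : Cst (2 • a)) : ∃ b, D.Tor b ∧ Cst (a - 2 • b) := by
  have k : ∀ p q, 2 * (a p - a q) = 0 := fun p q => by
    have := h2 p q
    simp only [ns_apply, Nat.cast_ofNat] at this
    linear_combination this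
  rcases h with h | ⟨hc, i, l, h⟩
  · have : Nonempty I := Fintype.card_pos_iff.1 (by omega)
    obtain ⟨i⟩ := this
    have hφ := two_φ (D := D) h i
    obtain ⟨e, t, ht⟩ := tor_two h ha i
    have k1 := k i (D.φ i)
    obtain ⟨s, rfl | rfl⟩ := D.even_or_odd t
    · refine ⟨_, tor_E (pr_φ hφ) s, ?_⟩
      have : ∀ p, (a - 2 • E i (D.φ i) (D.u * s)) p = 0 := fun p => by
        rcases two_pts h hφ.symm p with rfl | rfl <;>
          simp only [Pi.sub_apply, ns_apply, Nat.cast_ofNat, E_left hφ.symm,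
            E_right hφ.symm, e, ht] <;> ring
      exact fun p q => by rw [this, this]
    · rw [e, ht] at k1
      exact absurd (u4 (D.odd_cancel (t := s) (by linear_combination k1))) (c_ne h)
  have hj := ju0 hc
  have j4 := D.j4
  rcases D.cases with h1 | h2
  · rw [h1.2.2] at hj
    classical
    let y : I → R := fun p => if a p = a i then 0 else 1
    have e : ∀ p, a p = a i + 2 * y p := fun p => by
      by_cases hp : a p = a i
      · simp [y, hp]
      · have := (D.inv _ (k p i)).resolve_left (sub_ne_zero.2 hp)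
        simp only [y, hp, if_false]
        linear_combination this - 2 * hj
    have e2 : 2 * ∑ p, y p = 0 := by
      have := ha.2
      rw [h.sum] at this ⊢
      linear_combination this - e i - e (D.φ i) - e l - e (D.φ l) - a i * j4 - 4 * a i * hj
    refine ⟨fun p => y p - if p = i then ∑ p, y p else 0, ⟨by simp [h1.1, h1.2.1], by simp⟩, ?_⟩
    have : ∀ p, (a - 2 • fun p => y p - if p = i then ∑ p, y p else 0) p = a i := fun p => by
      simp only [Pi.sub_apply, ns_apply, Nat.cast_ofNat]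
      split_ifs
      · linear_combination e p + e2
      · linear_combination e p
    exact fun p q => by rw [this, this]
  · rw [h2.2.2] at hj
    have c1 := ha.1 i
    have c2 := ha.1 l
    rw [h2.1] at c1 c2
    have hr := h2.2.1
    obtain ⟨x, hx⟩ := even_of (D := D) (x := a i) (by
      linear_combination k i (D.φ i) + 2 * c1 + 2 * a i * hr + a i * j4 - 2 * a i * hj)
    obtain ⟨y, hy, e⟩ : ∃ y, a l = 2 * y ∧ 2 * D.j * (x + y) = 0 := by
      rcases D.inv _ (k l i) with e | e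
      · exact ⟨x, by linear_combination e + hx, by linear_combination x * j4⟩
      · exact ⟨x + 2, by linear_combination e + hx - 2 * hj, by linear_combination (x + 1) * j4⟩
    refine ⟨_, h2.tor_b i l e, ?_⟩
    obtain ⟨h1, h2, h3, h4, h5⟩ := h
    have n1 : D.φ l ≠ i := fun e => h4 (D.φ_eq.1 e)
    have n2 : D.φ l ≠ D.φ i := D.φ.injective.ne h3
    have : ∀ p, (a - 2 • fun p => x * D.b i p + y * D.b l p) p = 0 := fun p => by
      simp only [Pi.sub_apply, ns_apply, Nat.cast_ofNat]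
      rcases h5 p with rfl | rfl | rfl | rfl
      · rw [b_left h1, b_ne h3.symm n1.symm, hx]; ring
      · rw [b_right h1, b_ne h4.symm n2.symm, c1, hx]; ring
      · rw [b_left h2, b_ne h3 h4, hy]; ring
      · rw [b_right h2, b_ne n1 n2, c2, hy]; ring
    exact fun p q => by rw [this, this]

end AD

end Cfsg.Agent.LT
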