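import Cfsg.Agent.Lib.LT.Tor1

/-! Reflections are recognized by their commutators with the torus. -/

set_option autoImplicit false
set_option linter.unusedSectionVars false

namespace Cfsg.Agent.LT

open Equiv Equiv.Perm Finset

variable {I R : Type*} [Fintype I] [DecidableEq I] [CommRing R]

/-- The commutator of a permutation with a vector. -/
def cm (v : Perm I) (a : I → R) : I → R := fun p => a (v p) - a p

theorem cm_swap {i l : I} (h : i ≠ l) (a : I → R) : cm (swap i l) a = E i l (a l - a i) := by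
  ext p
  by_cases e : p = i
  · rw [e, E_left h]; simp [cm]
  by_cases e' : p = l
  · rw [e', E_right h]; simp [cm]
  · rw [E_ne e e']; simp [cm, swap_apply_of_ne_of_ne e e']

theorem cst_E (h3 : 3 ≤ Fintype.card I) {i l : I} (h : i ≠ l) (n : ℕ) (s : R) :
    Cst (n • E i l s) ↔ n * s = 0 := by
  constructor
  · intro e
    obtain ⟨m, m1, m2⟩ := exists_third h3 i l
    simpa [E_left h, E_ne m1 m2] using e i m
  · intro e
    have : ∀ p, (n • E i l s) p = 0 := fun p => by
      rw [ns_apply, E]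
      split_ifs <;> simp [e]
    exact fun p q => by rw [this, this]

theorem mul_E {k s : R} (h : k * s = 0) (i l p : I) : k * E i l s p = 0 := by
  rw [E]; split_ifs <;> simp [h]

theorem cst_of_zero {a : I → R} (h : ∀ p, a p = 0) : Cst a := fun p q => by rw [h, h]

namespace AD

variable (D : AD I R)

/-- The commutators of `v` form a cyclic group of the order of a reflection. -/
structure Cyc (v : Perm I) : Prop where
  c1 : ∀ a b, D.Tor a → D.Tor b → Cst (2 • cm v a) → Cst (2 • cm v b) → ¬ Cst (cm v a) →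
    ¬ Cst (cm v b) → Cst (cm v a - cm v b)
  c2 : ∀ a, D.Tor a → Cst (2 ^ (D.c + 2) • cm v a)
  c3 : ∃ a, D.Tor a ∧ ¬ Cst (2 ^ (D.c + 1) • cm v a)
  c4 : ∀ p, v (v p) = p

variable {D}

theorem Tor.cm {a : I → R} (ha : D.Tor a) {v : Perm I} (hv : D.Cs v) : D.Tor (cm v a) :=
  (ha.comp hv).sub ha

theorem faithful2 {v w : Perm I} (hv : D.Cs v) (hw : D.Cs w)
    (h : ∀ a, D.Tor a → Cst fun p => a (v p) - a (w p)) : v = w := by
  rw [← mul_inv_eq_one]
  exact faithful (hv.mul hw.inv) fun a ha p q => by simpa using h a ha (w⁻¹ p) (w⁻¹ q)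

theorem Pr.diff {i l : I} (h : D.Pr i l) {a : I → R} (ha : D.Tor a) : ∃ t, a l - a i = D.u * t := by
  by_cases ho : D.one
  · exact ⟨a l - a i, by simp [ho.2.2]⟩
  have ht := D.cases.resolve_left ho
  have := ha.1 i
  rw [ht.1, ← h.2.resolve_left ho, ht.2.1] at this
  exact ⟨(D.j - 1) * a i, by rw [ht.2.2]; linear_combination this⟩

theorem Pr.cs {i l : I} (h : D.Pr i l) : D.Cs (swap i l) := by
  rcases h.2 with ho | rfl
  · simp [Cs, ho.1]
  · exact cs_W (D.pd.swap_mem i)

theorem pr_of_cs {i l : I} (h : i ≠ l) (hc : D.Cs (swap i l)) : D.Pr i l := by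
  refine ⟨h, D.cases.imp_right fun ht => eq_of_swap_comm D.pd.fix h (ht.comm hc)⟩

theorem cyc_swap (h3 : 3 ≤ Fintype.card I) {i l : I} (h : D.Pr i l) : D.Cyc (swap i l) := by
  have c := fun n s => cst_E (R := R) h3 h.1 n s
  refine ⟨fun a b _ _ h1 h2 h4 h5 => ?_, fun a ha => ?_, ?_, fun p => swap_apply_self _ _ _⟩
  · rw [cm_swap h.1] at h1 h2 h4 h5 ⊢
    rw [cm_swap h.1]
    have e1 := (D.inv _ (by simpa using (c _ _).1 h1)).resolve_left fun e =>
      h4 (by simpa using (c 1 _).2 (by simpa using e))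
    have e2 := (D.inv _ (by simpa using (c _ _).1 h2)).resolve_left fun e =>
      h5 (by simpa using (c 1 _).2 (by simpa using e))
    rw [e1, e2, sub_self]
    exact fun _ _ => rfl
  · obtain ⟨t, ht⟩ := h.diff ha
    rw [cm_swap h.1, c, ht]
    have := D.j4
    rw [D.ju] at this
    push_cast
    linear_combination t * this
  · obtain ⟨m, m1, m2⟩ := exists_third h3 i l
    obtain ⟨G, hG, e, -⟩ := exG h m1 m2 (Or.inr rfl)
    refine ⟨G, hG, fun hc => D.j2 ?_⟩
    rw [cm_swap h.1, c] at hc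
    push_cast at hc
    rw [D.ju]
    linear_combination -hc - 2 ^ (D.c + 1) * e

theorem Cyc.tri {v : Perm I} (h : D.Cyc v) {a b c : I → R} (ha : D.Tor a) (hb : D.Tor b)
    (hc : D.Tor c) (h1 : ∀ p, 2 * cm v a p = 0) (h2 : ∀ p, 2 * cm v b p = 0)
    (h3 : ¬ Cst (cm v a)) (h4 : ¬ Cst (cm v b)) (h5 : ∀ p, 2 * cm v c p = cm v a p + cm v b p)
    {p q : I} (h6 : cm v a p = cm v a q) : cm v c p = cm v c q := by
  have k1 : Cst (2 • cm v a) := cst_of_zero fun p => by simpa using h1 p
  have k2 := h.c1 a b ha hb k1 (cst_of_zero fun p => by simpa using h2 p) h3 h4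
  by_contra hn
  have k3 := h.c1 c a hc ha (fun p q => by
    have := k2 p q
    simp only [Pi.sub_apply, ns_apply, Nat.cast_ofNat] at this ⊢
    linear_combination this + h5 p - h5 q + h2 p - h2 q) k1 (fun e => hn (e p q)) h3 p q
  simp only [Pi.sub_apply] at k3
  exact hn (by linear_combination k3 + h6)

theorem cm_E {v : Perm I} (hv : ∀ p, v (v p) = p) {i : I} (hi : v i ≠ i) (s : R) :
    cm v (E i (v i) s) = E i (v i) (-(2 * s)) := by
  ext p
  by_cases e : p = i
  · rw [e, cm, E_left hi.symm, E_left hi.symm, E_right hi.symm]; ring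
  by_cases e' : p = v i
  · rw [e', cm, hv, E_left hi.symm, E_right hi.symm, E_right hi.symm]; ring
  · rw [cm, E_ne e e', E_ne e e', E_ne (fun h => e' (by rw [← h, hv])) (v.injective.ne e)]; ring

theorem Cyc.isSwap {v : Perm I} (h : D.Cyc v) (hv : D.Cs v) : ∃ i l, D.Pr i l ∧ v = swap i l := by
  have vv := h.c4
  have j4 := D.j4
  by_cases hA : ∀ i, v i ≠ i → D.Pr i (v i)
  · obtain ⟨i, hi⟩ : ∃ i, v i ≠ i := by
      by_contra! e
      obtain ⟨a, -, ha⟩ := h.c3
      exact ha (cst_of_zero fun p => by simp [cm, e])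
    refine ⟨i, v i, hA i hi, ?_⟩
    by_contra hne
    obtain ⟨l, l1, l2, hl⟩ : ∃ l, l ≠ i ∧ l ≠ v i ∧ v l ≠ l := by
      by_contra! e
      refine hne (Perm.ext fun p => ?_)
      by_cases e1 : p = i
      · simp [e1]
      by_cases e2 : p = v i
      · simp [e2, vv]
      · rw [swap_apply_of_ne_of_ne e1 e2, e p e1 e2]
    have l3 : v l ≠ i := fun e => l2 (by rw [← e, vv])
    have l4 : v l ≠ v i := v.injective.ne l1
    obtain ⟨G, hG, e1, e2, e3⟩ := exG (hA i hi) l1 l2 (hA l hl).2
    have e4 := e3 l3 l4 hl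
    have ju := D.ju
    have := h.tri (tor_Ej (hA i hi)) (tor_Ej (hA l hl)) (hG.mul (2 ^ D.c)) (p := i) (q := v i)
      (fun p => by rw [cm_E vv hi]; exact mul_E (by linear_combination -j4) _ _ _)
      (fun p => by rw [cm_E vv hl]; exact mul_E (by linear_combination -j4) _ _ _)
      (fun e => D.j2 (by
        have := e i l
        rw [cm_E vv hi, E_left hi.symm, E_ne l1 l2] at this
        linear_combination -this))
      (fun e => D.j2 (by
        have := e l i
        rw [cm_E vv hl, E_left hl.symm, E_ne l1.symm l3.symm] at this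
        linear_combination -this))
      (fun p => ?_) (by rw [cm_E vv hi, E_left hi.symm, E_right hi.symm]; linear_combination -j4)
    · simp only [cm, vv] at this
      exact D.j2 (by linear_combination -this - 2 ^ (D.c + 1) * e1 + 2 * ju)
    rw [cm_E vv hi, cm_E vv hl, cm]
    by_cases p1 : p = i
    · rw [p1, E_left hi.symm, E_ne l1.symm l3.symm]
      linear_combination -2 ^ (D.c + 1) * e1 + 2 * ju
    by_cases p2 : p = v i
    · rw [p2, vv, E_right hi.symm, E_ne l2.symm l4.symm]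
      linear_combination 2 ^ (D.c + 1) * e1 - 2 * ju
    by_cases p3 : p = l
    · rw [p3, E_left hl.symm, E_ne l1 l2]
      linear_combination -e4
    by_cases p4 : p = v l
    · rw [p4, vv, E_right hl.symm, E_ne l3 l4]
      linear_combination e4
    · rw [E_ne p1 p2, E_ne p3 p4, e2 p p1 p2 p3 p4, e2 _ (fun e => p2 (by rw [← e, vv]))
        (v.injective.ne p1) (fun e => p4 (by rw [← e, vv])) (v.injective.ne p3)]
      ring
  exfalso
  push Not at hA
  obtain ⟨i, hi, hP⟩ := hA
  have ht : D.two := D.cases.resolve_left fun e => hP ⟨hi.symm, Or.inl e⟩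
  have i2 : v i ≠ D.φ i := fun e => hP ⟨hi.symm, Or.inr e⟩
  have cv := ht.comm hv
  have nf : ∀ m, v m ≠ m → D.φ m ≠ m := fun m hm e => hm (D.pd.fix _ _ (by rw [← cv, e]) e)
  have hφ := nf i hi
  have hφ' : D.φ (v i) ≠ v i := by rw [← cv]; exact v.injective.ne hφ
  have ju := D.ju
  have hr := ht.2.1
  rw [ht.2.2] at ju
  by_cases h4 : ∀ p, p = i ∨ p = D.φ i ∨ p = v i ∨ p = D.φ (v i)
  · have F : D.Four i (v i) := ⟨hφ, hφ', hi, i2, h4⟩
    obtain ⟨a, ha, hc⟩ := h.c3
    have c1 := ha.1 i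
    have c2 := ha.1 (v i)
    have c3 := ha.2
    rw [F.sum] at c3
    rw [ht.1] at c1 c2
    obtain ⟨t, e⟩ := even_of (D := D) (x := a i + a (v i)) (by
      linear_combination c3 - c1 - c2 - (a i + a (v i)) * hr)
    have : ∀ p, (2 ^ (D.c + 1) • cm v a) p = 2 * D.j * (t - a i) := fun p => by
      rw [ns_apply, cm]
      push_cast
      rcases h4 p with rfl | rfl | rfl | rfl
      · linear_combination 2 ^ (D.c + 1) * e - 2 * (t - a p) * ju
      · rw [cv, c1, c2, hr]
        linear_combination (2 * D.j - 1) * 2 ^ (D.c + 1) * e - 2 * (2 * D.j - 1) * (t - a i) * ju +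
          (D.j - 1) * (t - a i) * j4
      · rw [vv]
        linear_combination -2 ^ (D.c + 1) * e + 2 * (t - a i) * ju - (t - a i) * j4
      · rw [cv, vv, c1, c2, hr]
        linear_combination -(2 * D.j - 1) * 2 ^ (D.c + 1) * e +
          2 * (2 * D.j - 1) * (t - a i) * ju - D.j * (t - a i) * j4
    exact hc fun p q => by rw [this, this]
  push Not at h4
  obtain ⟨m, m1, m2, m3, m4⟩ := h4
  have n1 : i ≠ D.φ m := fun e => m2 (D.φ_eq.1 e.symm)
  have n2 : D.φ i ≠ D.φ m := D.φ.injective.ne m1.symm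
  have n3 : v i ≠ D.φ m := fun e => m4 (D.φ_eq.1 e.symm)
  have n4 : D.φ (v i) ≠ D.φ m := D.φ.injective.ne m3.symm
  have n5 : D.φ (v i) ≠ i := fun e => i2 (D.φ_eq.1 e)
  have n6 : D.φ (v i) ≠ D.φ i := D.φ.injective.ne hi
  by_cases hm : v m = m ∨ v m = D.φ m
  · have := h.c2 _ (ht.tor_b i m (s := 1) (t := 1) (by linear_combination j4)) (v i) m
    simp only [ns_apply, cm, vv, b_left hφ, b_ne hi i2, b_ne m1.symm n1, b_ne m3.symm n3] at this
    push_cast at this
    by_cases e : v m = m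
    · rw [e] at this
      exact D.j2 (by linear_combination this + 2 * ju)
    · have e' := hm.resolve_left e
      rw [e', b_ne n1.symm n2.symm, b_ne m1 m2, b_left (nf m e), b_right (nf m e), hr] at this
      exact D.j2 (by linear_combination this + 2 * ju - (4 * D.j - 4) * ju + (D.j - 1) * j4)
  push Not at hm
  have hφm := nf m hm.1
  have k1 : v m ≠ i := fun e => m3 (by rw [← e, vv])
  have k2 : v m ≠ D.φ i := fun e => m4 (by rw [← cv, ← e, vv])
  have tA := tor_Ej (pr_φ hφ)
  have tB := tor_Ej (pr_φ hφm)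
  have z : ∀ i p, 4 * E i (D.φ i) D.j p = 0 := fun i p => mul_E j4 _ _ _
  have := h.tri (tA.add tA) (tB.add tB) (tA.add tB) (p := i) (q := D.φ i)
    (fun p => by simp only [cm, Pi.add_apply]; linear_combination z i (v p) - z i p)
    (fun p => by simp only [cm, Pi.add_apply]; linear_combination z m (v p) - z m p)
    (fun e => D.j2 (by
      have := e i m
      simp only [cm, Pi.add_apply, E_left hφ.symm, E_ne hi i2, E_ne k1 k2, E_ne m1 m2] at this
      linear_combination -this))
    (fun e => D.j2 (by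
      have := e m i
      simp only [cm, Pi.add_apply, E_left hφm.symm, E_ne hm.1 hm.2, E_ne m3.symm n3,
        E_ne m1.symm n1] at this
      linear_combination -this))
    (fun p => by simp only [cm, Pi.add_apply]; ring)
    (by
      simp only [cm, Pi.add_apply, cv, E_left hφ.symm, E_right hφ.symm, E_ne hi i2, E_ne n5 n6]
      linear_combination -j4)
  simp only [cm, Pi.add_apply, cv, E_left hφ.symm, E_right hφ.symm, E_ne hi i2, E_ne n5 n6,
    E_ne m3.symm n3, E_ne m1.symm n1, E_ne m4.symm n4, E_ne m2.symm n2] at this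
  exact D.j2 (by linear_combination -this)

theorem inv_two (h : Fintype.card I = 2) {a b : I → R} (ha : D.Tor a) (hb : D.Tor b)
    (h1 : Cst (2 • a)) (h2 : Cst (2 • b)) (h3 : ¬ Cst a) (h4 : ¬ Cst b) : Cst (a - b) := by
  have : Nonempty I := Fintype.card_pos_iff.1 (by omega)
  obtain ⟨i⟩ := this
  have hφ := two_φ (D := D) h i
  have c : ∀ x : I → R, x i = x (D.φ i) → Cst x := fun x e p q => by
    rcases two_pts h hφ.symm p with rfl | rfl <;> rcases two_pts h hφ.symm q with rfl | rfl <;>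
      simp [e]
  have k : ∀ a, D.Tor a → Cst (2 • a) → ¬ Cst a → 2 * a i = 2 * D.j := fun a ha h1 h3 => by
    have e := (tor_two h ha i).1
    have := h1 i (D.φ i)
    simp only [ns_apply, Nat.cast_ofNat] at this
    exact (D.inv (2 * a i) (by linear_combination this + 2 * e)).resolve_left fun e' =>
      h3 (c _ (by linear_combination e' - e))
  refine c _ ?_
  simp only [Pi.sub_apply, (tor_two h ha i).1, (tor_two h hb i).1]
  linear_combination k a ha h1 h3 - k b hb h2 h4

variable (D) in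
/-- A correspondence induced by an automorphism of the torus modulo scalars. -/
structure Cor (ρ : (I → R) → (I → R) → Prop) : Prop where
  tor : ∀ {a a'}, ρ a a' → D.Tor a ∧ D.Tor a'
  total : ∀ a, D.Tor a → ∃ a', ρ a a'
  surj : ∀ a', D.Tor a' → ∃ a, ρ a a'
  sub : ∀ {a a' b b'}, ρ a a' → ρ b b' → ρ (a - b) (a' - b')
  cst : ∀ {a a'}, ρ a a' → (Cst a ↔ Cst a')

/-- `v'` is the conjugate of `v` under the correspondence. -/
def Rel (ρ : (I → R) → (I → R) → Prop) (v v' : Perm I) : Prop :=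
  ∀ a a', ρ a a' → ρ (fun p => a (v p)) fun p => a' (v' p)

variable {ρ : (I → R) → (I → R) → Prop}

theorem Cor.nsmul (h : D.Cor ρ) {a a' : I → R} (e : ρ a a') (n : ℕ) : ρ (n • a) (n • a') := by
  have h0 : ρ 0 0 := by simpa using h.sub e e
  induction n with
  | zero => simpa using h0
  | succ n ih =>
    have := h.sub ih (h.sub h0 e)
    rwa [zero_sub, zero_sub, sub_neg_eq_add, sub_neg_eq_add, ← succ_nsmul, ← succ_nsmul] at this

theorem Rel.cm (h : D.Cor ρ) {v v' : Perm I} (hv : Rel ρ v v') {a a' : I → R} (e : ρ a a') :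
    ρ (cm v a) (cm v' a') := h.sub (hv a a' e) e

theorem Rel.mul {v v' w w' : Perm I} (hv : Rel ρ v v') (hw : Rel ρ w w') :
    Rel ρ (v * w) (v' * w') := fun a a' e => hw _ _ (hv a a' e)

theorem Rel.unique (h : D.Cor ρ) {v v' v'' : Perm I} (h1 : Rel ρ v v') (h2 : Rel ρ v v'')
    (c1 : D.Cs v') (c2 : D.Cs v'') : v' = v'' := by
  refine faithful2 c1 c2 fun a' ha' => ?_
  obtain ⟨a, e⟩ := h.surj a' ha'
  exact (h.cst (h.sub (h1 a a' e) (h2 a a' e))).1 (by rw [sub_self]; exact fun _ _ => rfl)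

theorem Cyc.transfer (h : D.Cor ρ) {v v' : Perm I} (hv : Rel ρ v v') (c : D.Cs v')
    (hc : D.Cyc v) : D.Cyc v' := by
  refine ⟨fun a' b' ha hb h1 h2 h3 h4 => ?_, fun a' ha => ?_, ?_, ?_⟩
  · obtain ⟨a, ea⟩ := h.surj a' ha
    obtain ⟨b, eb⟩ := h.surj b' hb
    have k1 := hv.cm h ea
    have k2 := hv.cm h eb
    exact (h.cst (h.sub k1 k2)).1 (hc.c1 a b (h.tor ea).1 (h.tor eb).1
      ((h.cst (h.nsmul k1 2)).2 h1) ((h.cst (h.nsmul k2 2)).2 h2) (mt (h.cst k1).1 h3)
      (mt (h.cst k2).1 h4))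
  · obtain ⟨a, ea⟩ := h.surj a' ha
    exact (h.cst (h.nsmul (hv.cm h ea) _)).1 (hc.c2 a (h.tor ea).1)
  · obtain ⟨a, ha, e⟩ := hc.c3
    obtain ⟨a', ea⟩ := h.total a ha
    exact ⟨a', (h.tor ea).2, mt (h.cst (h.nsmul (hv.cm h ea) _)).2 e⟩
  · have e : v * v = 1 := Perm.ext hc.c4
    have := Rel.unique h (e ▸ hv.mul hv) (fun a a' e => e) (c.mul c) cs_one
    exact fun p => congrArg (· p) this

end AD

end Cfsg.Agent.LT
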