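import Cfsg.Agent.Lib.LT.Tor2

/-! The monomial Sylow 2-subgroup and its characteristic torus. -/

set_option autoImplicit false
set_option linter.unusedSectionVars false

namespace Cfsg.Agent.LT

open Equiv Equiv.Perm Finset Cfsg.Agent.Fus Cfsg.Agent.Fus2

/-- Monomial matrices in exponent form. -/
@[ext] structure Mon (I R : Type*) where
  a : I → R
  w : Perm I

variable {I R L : Type*} [Fintype I] [DecidableEq I] [CommRing R] [Group L]

instance : Group (Mon I R) where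
  mul x y := ⟨fun p => x.a p + y.a (x.w⁻¹ p), x.w * y.w⟩
  one := ⟨0, 1⟩
  inv x := ⟨fun p => -x.a (x.w p), x.w⁻¹⟩
  mul_assoc x y z := Mon.ext (funext fun p => add_assoc _ _ _) (mul_assoc _ _ _)
  one_mul x := Mon.ext (funext fun p => zero_add _) (one_mul _)
  mul_one x := Mon.ext (funext fun p => add_zero _) (mul_one _)
  inv_mul_cancel x := Mon.ext (funext fun p => neg_add_cancel _) (inv_mul_cancel _)

@[simp] theorem mul_a (x y : Mon I R) (p : I) : (x * y).a p = x.a p + y.a (x.w⁻¹ p) := rfl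
@[simp] theorem mul_w (x y : Mon I R) : (x * y).w = x.w * y.w := rfl
@[simp] theorem one_a (p : I) : (1 : Mon I R).a p = 0 := rfl
@[simp] theorem one_w : (1 : Mon I R).w = 1 := rfl
@[simp] theorem inv_a (x : Mon I R) (p : I) : x⁻¹.a p = -x.a (x.w p) := rfl
@[simp] theorem inv_w (x : Mon I R) : x⁻¹.w = x.w⁻¹ := rfl

variable (I R) in
/-- The permutation part. -/
def wHom : Mon I R →* Perm I := MonoidHom.mk' Mon.w fun _ _ => rfl

/-- Diagonal elements. -/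
def dg (a : I → R) : Mon I R := ⟨a, 1⟩

@[simp] theorem dg_a (a : I → R) : (dg a).a = a := rfl
@[simp] theorem dg_w (a : I → R) : (dg a).w = 1 := rfl

theorem dg_add (a b : I → R) : dg (a + b) = dg a * dg b := Mon.ext rfl (by simp)

theorem dg_nsmul (n : ℕ) (a : I → R) : dg (n • a) = dg a ^ n := by
  induction n with
  | zero => rw [zero_nsmul, pow_zero]; rfl
  | succ n ih => rw [succ_nsmul, dg_add, ih, pow_succ]

theorem conj_dg (x : Mon I R) (a : I → R) : x * dg a * x⁻¹ = dg fun p => a (x.w⁻¹ p) :=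
  Mon.ext (funext fun p => by simp) (by simp)

theorem eq_dg {x : Mon I R} (h : x.w = 1) : x = dg x.a := Mon.ext rfl h

namespace AD

variable (D : AD I R)

/-- The sign in exponent form. -/
def sg (w : Perm I) : R := if sign w = 1 then 0 else 2 * D.j

theorem sg_mul (v w : Perm I) : D.sg (v * w) = D.sg v + D.sg w := by
  have := D.j4
  simp only [sg, Perm.sign_mul]
  rcases Int.units_eq_one_or (sign v) with h | h <;>
    rcases Int.units_eq_one_or (sign w) with h' | h' <;> simp [h, h']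
  linear_combination -this

theorem sg_swap {i l : I} (h : i ≠ l) : D.sg (swap i l) = 2 * D.j := by simp [sg, sign_swap h]

/-- Monomial matrices of determinant one compatible with the twist. -/
def H : Subgroup (Mon I R) where
  carrier := {x | (∀ p, x.a (D.σ p) = D.r * x.a p) ∧ D.Cs x.w ∧ D.sg x.w + ∑ p, x.a p = 0}
  one_mem' := ⟨by simp, cs_one, by simp [sg]⟩
  mul_mem' := by
    rintro x y ⟨h1, h2, h3⟩ ⟨k1, k2, k3⟩
    refine ⟨fun p => by simp only [mul_a, h2.inv p, h1, k1]; ring, h2.mul k2, ?_⟩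
    simp only [mul_a, mul_w, sg_mul, sum_add_distrib, Equiv.sum_comp x.w⁻¹ y.a]
    linear_combination h3 + k3
  inv_mem' := by
    rintro x ⟨h1, h2, h3⟩
    refine ⟨fun p => by simp only [inv_a, h2 p, h1]; ring, h2.inv, ?_⟩
    have := D.sg_mul x.w x.w⁻¹
    simp only [mul_inv_cancel, sg, Perm.sign_one, if_true] at this
    simp only [inv_a, inv_w, sum_neg_distrib, Equiv.sum_comp x.w x.a]
    simp only [sg] at h3 ⊢
    linear_combination -h3 - this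

/-- The preimage of the Sylow subgroup of the symmetric group. -/
def Ph : Subgroup (Mon I R) := D.H ⊓ D.W.comap (wHom I R)

variable {D}

theorem dg_mem {a : I → R} : dg a ∈ D.H ↔ D.Tor a :=
  ⟨fun h => ⟨h.1, by simpa [sg] using h.2.2⟩, fun h => ⟨h.1, cs_one, by simpa [sg] using h.2⟩⟩

theorem mem_Ph {x : Mon I R} : x ∈ D.Ph ↔ x ∈ D.H ∧ x.w ∈ D.W := Iff.rfl

theorem Ph_comm {x : Mon I R} (h : x ∈ D.Ph) (p : I) : x.w (D.φ p) = D.φ (x.w p) :=
  D.pd.comm _ h.2 p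

theorem dg_mem_Ph {a : I → R} (h : D.Tor a) : dg a ∈ D.Ph := mem_Ph.2 ⟨dg_mem.2 h, one_mem _⟩

theorem lift {w : Perm I} (hw : D.Cs w) : ∃ x ∈ D.H, x.w = w := by
  by_cases h : sign w = 1
  · exact ⟨⟨0, w⟩, ⟨by simp, hw, by simp [sg, h]⟩, rfl⟩
  have : Nonempty I := Fintype.card_pos_iff.1 (by have := D.big; omega)
  obtain ⟨i⟩ := this
  have j4 := D.j4
  rcases D.cases with h1 | h2
  · exact ⟨⟨fun p => if p = i then 2 * D.j else 0, w⟩, ⟨by simp [h1.1, h1.2.1], hw, by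
      simp only [sg, h, if_false, sum_ite_eq', mem_univ, if_true]; linear_combination j4⟩, rfl⟩
  · exact ⟨⟨D.b i, w⟩, ⟨h2.b_σ i, hw, by
      simp only [sg, h, if_false, h2.sum_b]; linear_combination j4⟩, rfl⟩

theorem lift_W {w : Perm I} (hw : w ∈ D.W) : ∃ x ∈ D.Ph, x.w = w := by
  obtain ⟨x, hx, e⟩ := lift (cs_W hw)
  exact ⟨x, mem_Ph.2 ⟨hx, e ▸ hw⟩, e⟩

theorem isPGroup_Ph : IsPGroup 2 D.Ph := by
  rintro ⟨x, hx⟩
  obtain ⟨k, hk⟩ := D.pd.syl.isPGroup ⟨x.w, hx.2⟩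
  refine ⟨k + (D.c + 3), Subtype.ext ?_⟩
  have e : (x ^ 2 ^ k).w = 1 := (map_pow (wHom I R) x _).trans (congrArg Subtype.val hk)
  change x ^ 2 ^ (k + (D.c + 3)) = 1
  rw [pow_add, pow_mul, eq_dg e, ← dg_nsmul]
  refine Mon.ext (funext fun p => ?_) rfl
  rw [dg_a, ns_apply]
  push_cast
  rw [two_pow, zero_mul, one_a]

theorem Four.φ_eq {i l : I} (h : D.Four i l) : D.φ = swap i (D.φ i) * swap l (D.φ l) := by
  obtain ⟨h1, h2, h3, h4, h5⟩ := h
  have n1 : D.φ l ≠ i := fun e => h4 (D.φ_eq.1 e)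
  have n2 : D.φ l ≠ D.φ i := D.φ.injective.ne h3
  ext p
  rcases h5 p with rfl | rfl | rfl | rfl <;> rw [Perm.mul_apply]
  · rw [swap_apply_of_ne_of_ne h3.symm n1.symm, swap_apply_left]
  · rw [swap_apply_of_ne_of_ne h4.symm n2.symm, swap_apply_right, D.φφ]
  · rw [swap_apply_left, swap_apply_of_ne_of_ne n1 n2]
  · rw [swap_apply_right, swap_apply_of_ne_of_ne h3 h4, D.φφ]

end AD

/-- A group with a monomial structure. -/
structure TS (I R L : Type*) [Fintype I] [DecidableEq I] [CommRing R] [Group L] extends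
    AD I R where
  θ : Mon I R → L
  hom : HomOn toAD.H θ
  ker : ∀ x ∈ toAD.H, θ x = 1 ↔ x.w = 1 ∧ Cst x.a
  norm : ∀ g : L, (∀ a, toAD.Tor a → ∃ a', toAD.Tor a' ∧ g * θ (dg a) * g⁻¹ = θ (dg a')) →
    ∃ v, toAD.Cs v ∧ (∀ a, toAD.Tor a → g * θ (dg a) * g⁻¹ = θ (dg fun p => a (v p))) ∧
      (v = 1 → (∃ k, g ^ 2 ^ k = 1) → ∃ a, toAD.Tor a ∧ θ (dg a) = g)

namespace TS

open AD

variable (T : TS I R L)

/-- The image of a diagonal element. -/
def d (a : I → R) : L := T.θ (dg a)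

/-- The torus. -/
def A : Subgroup L := img (T.H ⊓ (wHom I R).ker) T.θ

/-- The monomial Sylow subgroup. -/
def P : Subgroup L := img T.Ph T.θ

/-- `g` acts on the torus through `v`. -/
def Act (g : L) (v : Perm I) : Prop := ∀ a, T.Tor a → g * T.d a * g⁻¹ = T.d fun p => a (v p)

variable {T}

theorem mem_A {g : L} : g ∈ T.A ↔ ∃ a, T.Tor a ∧ T.d a = g := by
  rw [A, (T.hom.mono inf_le_left).mem_img]
  exact ⟨fun ⟨x, hx, e⟩ => ⟨x.a, dg_mem.1 (eq_dg hx.2 ▸ hx.1), by rw [d, ← eq_dg hx.2, e]⟩,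
    fun ⟨a, ha, e⟩ => ⟨dg a, ⟨dg_mem.2 ha, rfl⟩, e⟩⟩

theorem d_mem {a : I → R} (h : T.Tor a) : T.d a ∈ T.A := mem_A.2 ⟨a, h, rfl⟩

theorem mem_P {g : L} : g ∈ T.P ↔ ∃ x ∈ T.Ph, T.θ x = g := (T.hom.mono inf_le_left).mem_img

theorem θ_mem {x : Mon I R} (h : x ∈ T.Ph) : T.θ x ∈ T.P := mem_P.2 ⟨x, h, rfl⟩

theorem A_le_P : T.A ≤ T.P := fun _ h => by
  obtain ⟨a, ha, rfl⟩ := mem_A.1 h
  exact θ_mem (dg_mem_Ph ha)

theorem isPGroup_P : IsPGroup 2 T.P := (T.hom.mono inf_le_left).isPGroup_img isPGroup_Ph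

theorem d_add {a b : I → R} (ha : T.Tor a) (hb : T.Tor b) : T.d (a + b) = T.d a * T.d b := by
  rw [d, dg_add, T.hom _ (dg_mem.2 ha) _ (dg_mem.2 hb)]; rfl

theorem d_nsmul {a : I → R} (ha : T.Tor a) (n : ℕ) : T.d (n • a) = T.d a ^ n := by
  rw [d, dg_nsmul, T.hom.map_pow (dg_mem.2 ha)]; rfl

theorem d_sub {a b : I → R} (ha : T.Tor a) (hb : T.Tor b) : T.d (a - b) = T.d a * (T.d b)⁻¹ := by
  rw [eq_mul_inv_iff_mul_eq, ← d_add (ha.sub hb) hb, sub_add_cancel]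

theorem d_eq_one {a : I → R} (ha : T.Tor a) : T.d a = 1 ↔ Cst a := by
  rw [d, T.ker _ (dg_mem.2 ha)]; simp

theorem d_eq_iff {a b : I → R} (ha : T.Tor a) (hb : T.Tor b) : T.d a = T.d b ↔ Cst (a - b) := by
  rw [← d_eq_one (ha.sub hb), d_sub ha hb, mul_inv_eq_one]

theorem A_comm {x y : L} (hx : x ∈ T.A) (hy : y ∈ T.A) : x * y = y * x := by
  obtain ⟨a, ha, rfl⟩ := mem_A.1 hx
  obtain ⟨b, hb, rfl⟩ := mem_A.1 hy
  rw [← d_add ha hb, ← d_add hb ha, add_comm]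

theorem w_eq {x y : Mon I R} (hx : x ∈ T.H) (hy : y ∈ T.H) (e : T.θ x = T.θ y) : x.w = y.w := by
  have := (T.ker _ (mul_mem hx (inv_mem hy))).1 (by
    rw [T.hom _ hx _ (inv_mem hy), T.hom.map_inv hy, e, mul_inv_cancel])
  exact mul_inv_eq_one.1 this.1

theorem act_θ {x : Mon I R} (hx : x ∈ T.H) : T.Act (T.θ x) x.w⁻¹ := fun a ha => by
  rw [d, ← T.hom.map_conj hx (dg_mem.2 ha), conj_dg]; rfl

theorem Act.mul {g g' : L} {v v' : Perm I} (h : T.Act g v) (h' : T.Act g' v') (c : T.Cs v') :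
    T.Act (g * g') (v' * v) := fun a ha => by
  rw [show g * g' * T.d a * (g * g')⁻¹ = g * (g' * T.d a * g'⁻¹) * g⁻¹ by group, h' a ha,
    h _ (ha.comp c)]
  rfl

theorem Act.unique {g : L} {v v' : Perm I} (h : T.Act g v) (h' : T.Act g v') (c : T.Cs v)
    (c' : T.Cs v') : v = v' :=
  faithful2 c c' fun a ha => (d_eq_iff (ha.comp c) (ha.comp c')).1 ((h a ha).symm.trans (h' a ha))

theorem act_one : T.Act 1 1 := fun a _ => by simp

theorem Act.pow {g : L} {v : Perm I} (h : T.Act g v) (c : T.Cs v) (n : ℕ) :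
    T.Act (g ^ n) (v ^ n) ∧ T.Cs (v ^ n) := by
  induction n with
  | zero => exact ⟨by simpa using act_one, by simpa using cs_one⟩
  | succ n ih => exact ⟨by rw [pow_succ, pow_succ']; exact ih.1.mul h c, pow_succ v n ▸ ih.2.mul c⟩

theorem Act.mem {g : L} {v : Perm I} (h : T.Act g v) (c : T.Cs v) {y : L} (hy : y ∈ T.A) :
    g * y * g⁻¹ ∈ T.A := by
  obtain ⟨a, ha, rfl⟩ := mem_A.1 hy
  exact h a ha ▸ d_mem (ha.comp c)

theorem exists_act {g : L} (h : ∀ y ∈ T.A, g * y * g⁻¹ ∈ T.A) :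
    ∃ v, T.Cs v ∧ T.Act g v ∧ (v = 1 → (∃ k, g ^ 2 ^ k = 1) → g ∈ T.A) := by
  obtain ⟨v, h1, h2, h3⟩ := T.norm g fun a ha => by
    obtain ⟨a', ha', e⟩ := mem_A.1 (h _ (d_mem ha))
    exact ⟨a', ha', e.symm⟩
  exact ⟨v, h1, h2, fun e k => mem_A.2 (h3 e k)⟩

theorem conj_mem_A {g y : L} (hg : g ∈ T.P) (hy : y ∈ T.A) : g * y * g⁻¹ ∈ T.A := by
  obtain ⟨x, hx, rfl⟩ := mem_P.1 hg
  exact (act_θ hx.1).mem hx.1.2.1.inv hy

theorem Act.comm {g : L} {v : Perm I} (h : T.Act g v) (c : T.Cs v) {a : I → R} (ha : T.Tor a) :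
    g * T.d a * g⁻¹ * (T.d a)⁻¹ = T.d (cm v a) := by
  rw [h a ha, ← d_sub (ha.comp c) ha]; rfl

section C1

variable {B : Subgroup L} (hBP : B ≤ T.P) (hc : ∀ x ∈ B, ∀ y ∈ B, x * y = y * x)
  (hn : ∀ g ∈ T.P, ∀ y ∈ B, g * y * g⁻¹ ∈ B)
include hBP hc hn

theorem cst_of_mem {x : Mon I R} (hx : x ∈ T.H) (hB : T.θ x ∈ B) {a : I → R} (ha : T.Tor a)
    (h : T.d a ∈ B) : Cst (cm x.w⁻¹ a) := by
  rw [← d_eq_one (ha.cm hx.2.1.inv), ← (act_θ hx).comm hx.2.1.inv ha, hc _ hB _ h]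
  group

theorem quad_of_mem {x : Mon I R} (hx : x ∈ T.Ph) (hB : T.θ x ∈ B) (hw : x.w ≠ 1) :
    (∀ p, x.w (x.w p) = p) ∧
      (Fintype.card I = 2 ∨ T.c = 0 ∧ (∀ p, x.w p ≠ p) ∧ ∃ i l, T.Four i l) := by
  have c := hx.1.2.1.inv
  obtain ⟨h1, h2⟩ := quad (D := T.toAD) (v := x.w⁻¹) (T.pd.comm _ (inv_mem hx.2))
    (inv_ne_one.2 hw) fun a ha => by
      have h1 : T.d (cm x.w⁻¹ a) ∈ B := by
        rw [← (act_θ hx.1).comm c ha]
        have := mul_mem hB (hn _ (A_le_P (d_mem ha)) _ (inv_mem hB))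
        rwa [← mul_assoc, ← mul_assoc] at this
      have := cst_of_mem hBP hc hn hx.1 hB (ha.cm c) h1
      intro p q
      have := this p q
      simp only [cm] at this
      linear_combination this
  have e : x.w⁻¹ = x.w := Perm.ext fun p => by
    simpa using h1 (x.w p)
  rw [e] at h1 h2
  exact ⟨h1, h2⟩

theorem sq_four {x : Mon I R} (hx : x ∈ T.Ph) (hB : T.θ x ∈ B) (hw : x.w = T.φ) (h0 : T.c = 0)
    {i l : I} (h : T.Four i l) : T.θ (x * x) = 1 := by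
  have fi : T.φ⁻¹ = T.φ := Perm.ext fun p => by rw [Perm.inv_eq_iff_eq, T.φφ]
  have j4 := T.j4
  have s := hx.1.2.2
  have h' := h
  obtain ⟨h1, h2, h3, h4, h5⟩ := h'
  have n1 : T.φ l ≠ i := fun e => h4 (T.φ_eq.1 e)
  have n2 : T.φ l ≠ T.φ i := T.φ.injective.ne h3
  rw [hw, h.sum, h.φ_eq, sg_mul, sg_swap _ h1.symm, sg_swap _ h2.symm, ← h.φ_eq] at s
  have key : 2 * (x.a i + x.a (T.φ i)) = 0 := by
    rcases T.cases with h1' | h2'
    swap
    · have := hx.1.1 i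
      rw [h2'.1, h2'.2.1] at this
      linear_combination 2 * this + x.a i * j4
    have hj := ju0 h0
    rw [h1'.2.2] at hj
    let t : Mon I R := ⟨fun p => if p = i then 2 * T.j else 0, swap i (T.φ i)⟩
    have ht : t ∈ T.Ph := mem_Ph.2 ⟨⟨by simp [h1'.1, h1'.2.1], (pr_φ h1).cs, by
      simp only [t, sg_swap _ h1.symm, sum_ite_eq', mem_univ, if_true]
      linear_combination j4⟩, T.pd.swap_mem i⟩
    have hy := (mul_mem (mul_mem (mul_mem ht hx) (inv_mem ht)) (inv_mem hx)).1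
    have cm' : ∀ p, swap i (T.φ i) (T.φ p) = T.φ (swap i (T.φ i) p) :=
      T.pd.comm _ (T.pd.swap_mem i)
    have yw : (t * x * t⁻¹ * x⁻¹).w = 1 := by
      ext p
      simp [t, hw, fi, cm', T.φφ]
    have yB : T.θ (t * x * t⁻¹ * x⁻¹) ∈ B := by
      rw [T.hom _ (mul_mem (mul_mem ht.1 hx.1) (inv_mem ht.1)) _ (inv_mem hx.1),
        T.hom.map_conj ht.1 hx.1, T.hom.map_inv hx.1]
      exact mul_mem (hn _ (θ_mem ht) _ hB) (inv_mem hB)
    rw [eq_dg yw] at hy yB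
    have := cst_of_mem hBP hc hn hx.1 hB (dg_mem.1 hy) yB i l
    simp only [cm, mul_a, inv_a, mul_w, inv_w, t, hw, fi, mul_inv_rev, swap_inv, Perm.mul_apply,
      inv_inv, cm', T.φφ, swap_apply_left, swap_apply_right, swap_apply_self,
      swap_apply_of_ne_of_ne h3 h4, swap_apply_of_ne_of_ne n1 n2, if_true, h1, h3, n1,
      if_false] at this
    linear_combination this + (1 + x.a (T.φ i)) * j4 + 4 * x.a (T.φ i) * hj
  refine (T.ker _ (mul_mem hx.1 hx.1)).2 ⟨by ext p; simp [hw, T.φφ], ?_⟩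
  have : ∀ p, (x * x).a p = x.a i + x.a (T.φ i) := fun p => by
    rw [mul_a, hw, fi]
    rcases h5 p with rfl | rfl | rfl | rfl
    · rfl
    · rw [T.φφ, add_comm]
    · linear_combination s - key - j4
    · rw [T.φφ]; linear_combination s - key - j4
  exact fun p q => by rw [this, this]

theorem exists_invol {x : Mon I R} (hx : x ∈ T.Ph) (hB : T.θ x ∈ B) (hw : x.w ≠ 1) :
    ∃ y ∈ T.Ph, T.θ y ∈ B ∧ y.w ≠ 1 ∧ T.θ (y * y) = 1 := by
  obtain ⟨vv, h | ⟨h0, hf, i, l, h⟩⟩ := quad_of_mem hBP hc hn hx hB hw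
  · refine ⟨x, hx, hB, hw, (T.ker _ (mul_mem hx.1 hx.1)).2 ⟨Perm.ext vv, ?_⟩⟩
    have : ∀ p, (x * x).a p = ∑ q, x.a q := fun p => by
      rw [mul_a]
      refine (sum_two h (fun e => hw (Perm.ext fun q => ?_)) _).symm
      have e' : x.w p = p := by rw [← Perm.eq_inv_iff_eq]; exact e
      rcases two_pts h (two_φ (D := T.toAD) h p).symm q with rfl | rfl
      · exact e'
      · rw [Ph_comm hx, e']; rfl
    exact fun p q => by rw [this, this]
  have cv := Ph_comm hx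
  have h' := h
  obtain ⟨h1, h2, h3, h4, h5⟩ := h'
  have hφ : T.φ ≠ 1 := fun e => h1 (by rw [e]; rfl)
  by_cases e : x.w i = T.φ i
  · have e2 : x.w l = T.φ l := by
      rcases h5 (x.w l) with e' | e' | e' | e'
      · exact absurd (by rw [← vv l, e', e]) h4
      · exact absurd (x.w.injective (e'.trans e.symm)) h3
      · exact absurd e' (hf l)
      · exact e'
    have e3 : x.w = T.φ := Perm.ext fun p => by
      rcases h5 p with rfl | rfl | rfl | rfl <;> simp only [cv, e, e2]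
    exact ⟨x, hx, hB, hw, sq_four hBP hc hn hx hB e3 h0 h⟩
  obtain ⟨t, ht, et⟩ := lift_W (T.pd.swap_mem i)
  have hy := mul_mem (mul_mem (mul_mem ht hx) (inv_mem ht)) (inv_mem hx)
  have yw : (t * x * t⁻¹ * x⁻¹).w = T.φ := by
    simp only [mul_w, inv_w, et, swap_inv]
    rw [mul_assoc, mul_assoc, ← mul_assoc x.w, ← swap_apply_apply, cv, h.φ_eq, ← h.φ_eq]
    rcases h5 (x.w i) with e' | e' | e' | e'
    · exact absurd e' (hf i)
    · exact absurd e' e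
    · rw [e', ← h.φ_eq]
    · rw [e', T.φφ, swap_comm (T.φ l), ← h.φ_eq]
  have yB : T.θ (t * x * t⁻¹ * x⁻¹) ∈ B := by
    rw [T.hom _ (mul_mem (mul_mem ht.1 hx.1) (inv_mem ht.1)) _ (inv_mem hx.1),
      T.hom.map_conj ht.1 hx.1, T.hom.map_inv hx.1]
    exact mul_mem (hn _ (θ_mem ht) _ hB) (inv_mem hB)
  exact ⟨_, hy, yB, yw ▸ hφ, sq_four hBP hc hn hy yB yw h0 h⟩

end C1

/-- The torus is characteristic in the monomial Sylow subgroup. -/
theorem char_A {α : L → L} (hom : HomOn T.P α) (mem : ∀ x ∈ T.P, α x ∈ T.P)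
    (inj : ∀ x ∈ T.P, α x = 1 → x = 1) (surj : ∀ y ∈ T.P, ∃ x ∈ T.P, α x = y) :
    ∀ y ∈ T.A, α y ∈ T.A := by
  have hA := hom.mono (A_le_P (T := T))
  have hBP : img T.A α ≤ T.P := img_le_iff.2 fun x hx => mem x (A_le_P hx)
  have hc : ∀ x ∈ img T.A α, ∀ y ∈ img T.A α, x * y = y * x := by
    intro x' hx' y' hy'
    obtain ⟨x, hx, rfl⟩ := hA.mem_img.1 hx'
    obtain ⟨y, hy, rfl⟩ := hA.mem_img.1 hy'
    rw [← hA _ hx _ hy, ← hA _ hy _ hx, A_comm hx hy]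
  have hn : ∀ g ∈ T.P, ∀ y ∈ img T.A α, g * y * g⁻¹ ∈ img T.A α := by
    intro g' hg' y' hy'
    obtain ⟨g, hg, rfl⟩ := surj g' hg'
    obtain ⟨y, hy, rfl⟩ := hA.mem_img.1 hy'
    rw [← hom.map_conj hg (A_le_P hy)]
    exact mem_img_of_mem α (conj_mem_A hg hy)
  intro y hy
  have hB := mem_img_of_mem α hy
  obtain ⟨x, hx, e⟩ := mem_P.1 (hBP hB)
  rw [← e] at hB ⊢
  by_contra hne
  have hw : x.w ≠ 1 := fun h => hne (by
    rw [eq_dg h]
    exact d_mem (dg_mem.1 (eq_dg h ▸ hx.1)))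
  have ex := (quad_of_mem hBP hc hn hx hB hw).2
  obtain ⟨z, hz, zB, zw, z2⟩ := exists_invol hBP hc hn hx hB hw
  obtain ⟨_, h1, e1⟩ := hA.mem_img.1 zB
  obtain ⟨a, ha, rfl⟩ := mem_A.1 h1
  have h2 : Cst (2 • a) := by
    rw [← d_eq_one (ha.nsmul 2), d_nsmul ha]
    refine inj _ (A_le_P (pow_mem h1 2)) ?_
    rw [hA.map_pow h1, e1, sq, ← T.hom _ hz.1 _ hz.1, z2]
  obtain ⟨b, hb, h3⟩ := omega (ex.imp_right fun h => ⟨h.1, h.2.2⟩) ha h2
  rw [← d_eq_iff ha (hb.nsmul 2), d_nsmul hb] at h3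
  have hB' := mem_img_of_mem α (d_mem hb)
  obtain ⟨u, hu, eu⟩ := mem_P.1 (hBP hB')
  have e2 : z.w = (u * u).w := w_eq hz.1 (mul_mem hu.1 hu.1) (by
    rw [T.hom _ hu.1 _ hu.1, eu, ← e1, h3, hA.map_pow (d_mem hb), sq])
  refine zw (e2.trans ?_)
  by_cases uw : u.w = 1
  · simp [uw]
  · exact Perm.ext (quad_of_mem hBP hc hn hu (eu ▸ hB') uw).1

theorem sylow [Finite L] : IsSylowIn 2 T.P ⊤ := by
  by_contra hne
  obtain ⟨g, -, hg, hgP, k, hk⟩ :=
    exists_mem_normalizer_of_not_isSylowIn le_top isPGroup_P hne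
  have hm := fun x => (Subgroup.mem_normalizer_iff.1 hg x).1
  have hA := char_A (T := T) (homOn_conj _ g) hm (fun x _ e => by simpa using e) fun y hy =>
    ⟨g⁻¹ * y * g, (Subgroup.mem_normalizer_iff''.1 hg y).1 hy, by group⟩
  obtain ⟨v, cv, hv, -⟩ := exists_act hA
  have vk : v ^ 2 ^ k = 1 := by
    have := hv.pow cv (2 ^ k)
    rw [hk] at this
    exact this.1.unique act_one this.2 cs_one
  have vn : v ∈ Subgroup.normalizer (T.W : Set (Perm I)) := by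
    rw [← inv_mem_iff]
    refine Subgroup.mem_normalizer_fintype fun w hw => ?_
    obtain ⟨x, hx, rfl⟩ := lift_W hw
    obtain ⟨y, hy, e⟩ := mem_P.1 (hm _ (θ_mem hx))
    have h1 := hv.mul (act_θ hx.1) hx.1.2.1.inv
    have h2 := (act_θ hy.1).mul hv cv
    rw [e, inv_mul_cancel_right] at h2
    have := h1.unique h2 (hx.1.2.1.inv.mul cv) (cv.mul hy.1.2.1.inv)
    have e2 : v⁻¹ * x.w * v⁻¹⁻¹ = y.w := by
      rw [inv_inv, ← inv_inj, mul_inv_rev, mul_inv_rev, inv_inv, this]; group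
    exact e2 ▸ hy.2
  have vW : v ∈ T.W := T.pd.syl.le_of_le_normalizer le_top (isPGroup_zpowers_of_pow vk)
    (Subgroup.zpowers_le.2 vn) (Subgroup.mem_zpowers v)
  obtain ⟨x, hx, e⟩ := lift_W vW
  have h1 := (act_θ hx.1).mul hv cv
  rw [e, mul_inv_cancel] at h1
  obtain ⟨v', cv', hv', h2⟩ := exists_act (g := T.θ x * g) fun y hy => h1.mem cs_one hy
  have h3 : IsPGroup 2 (Subgroup.zpowers g ⊔ T.P : Subgroup L) :=
    IsPGroup.to_sup_of_normal_right' (isPGroup_zpowers_of_pow hk) isPGroup_P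
      (Subgroup.zpowers_le.2 hg)
  obtain ⟨m, hm⟩ := h3 ⟨T.θ x * g, mul_mem (Subgroup.mem_sup_right (θ_mem hx))
    (Subgroup.mem_sup_left (Subgroup.mem_zpowers g))⟩
  have := A_le_P (h2 (hv'.unique h1 cv' cs_one) ⟨m, congrArg Subtype.val hm⟩)
  exact hgP ((T.P.mul_mem_cancel_left (θ_mem hx)).1 this)

end TS

end Cfsg.Agent.LT
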