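import Cfsg.Agent.Lib.LT.Tor3
import Cfsg.Agent.Lib.LT.Red

/-! Odd order fusion preserving automorphisms of the monomial Sylow 2-subgroup are trivial. -/

set_option autoImplicit false
set_option linter.unusedSectionVars false

namespace Cfsg.Agent.LT

open Equiv Equiv.Perm Finset Cfsg.Agent.Fus Cfsg.Agent.Fus2

section
variable {L : Type*} [Group L] {P : Subgroup L} {α : L → L}

theorem OddAut.iter_mem {Q : Subgroup L} (hQ : ∀ x ∈ Q, α x ∈ Q) {x : L} (hx : x ∈ Q) (n : ℕ) :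
    α^[n] x ∈ Q := by
  induction n with
  | zero => exact hx
  | succ n ih => rw [Function.iterate_succ_apply']; exact hQ _ ih

theorem OddAut.surj (h : OddAut P α) {Q : Subgroup L} (hQP : Q ≤ P) (hQ : ∀ x ∈ Q, α x ∈ Q)
    {y : L} (hy : y ∈ Q) : ∃ x ∈ Q, α x = y := by
  obtain ⟨N, ⟨m, rfl⟩, e⟩ := h.per
  refine ⟨_, OddAut.iter_mem hQ hy (2 * m), ?_⟩
  have := e y (hQP hy)
  rwa [add_comm, Function.iterate_add_apply] at this

theorem OddAut.inj (h : OddAut P α) {x : L} (hx : x ∈ P) (e : α x = 1) : x = 1 := by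
  obtain ⟨N, ⟨m, rfl⟩, eN⟩ := h.per
  have := eN x hx
  rw [Function.iterate_add_apply, Function.iterate_one, e,
    Function.iterate_fixed h.hom.map_one] at this
  exact this.symm

theorem OddAut.stab (h : OddAut P α) (hP : IsPGroup 2 P) {y : L} (hy : y ∈ P)
    (e : α (y⁻¹ * α y) = y⁻¹ * α y) : α y = y := by
  obtain ⟨N, hN, eN⟩ := h.per
  have hv := mul_mem (inv_mem hy) (h.mem y hy)
  set v := y⁻¹ * α y with hv'
  have key : ∀ n, α^[n] y = y * v ^ n := by
    intro n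
    induction n with
    | zero => simp
    | succ n ih =>
      rw [Function.iterate_succ_apply', ih, h.hom _ hy _ (pow_mem hv n), h.hom.map_pow hv, e,
        pow_succ', ← mul_assoc, hv', mul_inv_cancel_left]
  have h1 : v ^ N = 1 := by simpa [eN y hy] using (key N).symm
  obtain ⟨k, hk⟩ := hP ⟨v, hv⟩
  have h2 : v ^ 2 ^ k = 1 := congrArg Subtype.val hk
  have : orderOf v = 1 := Nat.eq_one_of_dvd_coprimes
    ((Nat.coprime_two_right.2 hN).pow_right k) (orderOf_dvd_of_pow_eq_one h1)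
    (orderOf_dvd_of_pow_eq_one h2)
  exact (inv_mul_eq_one.1 (orderOf_eq_one_iff.1 this)).symm

theorem OddAut.fix_of_invol (h : OddAut P α) (hP : IsPGroup 2 P) {Q : Subgroup L} (hQP : Q ≤ P)
    (hQ : ∀ x ∈ Q, α x ∈ Q) (hc : ∀ x ∈ Q, ∀ y ∈ Q, x * y = y * x)
    (hi : ∀ x ∈ Q, x ^ 2 = 1 → α x = x) {x : L} (hx : x ∈ Q) : α x = x := by
  obtain ⟨k, hk⟩ := Tr.isPGroup_iff_forall_mem.1 hP x (hQP hx)
  induction k generalizing x with
  | zero => rw [pow_zero, pow_one] at hk; rw [hk, h.hom.map_one]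
  | succ k ih =>
    have h1 := ih (pow_mem hx 2) (by rw [← pow_mul, ← pow_succ', hk])
    refine h.stab hP (hQP hx) (hi _ (mul_mem (inv_mem hx) (hQ x hx)) ?_)
    rw [Commute.mul_pow (hc _ (inv_mem hx) _ (hQ x hx)), ← h.hom.map_pow (hQP hx), h1]
    simp

end

variable {I R L : Type*} [Fintype I] [DecidableEq I] [CommRing R] [Group L]

namespace TS

open AD

variable {T : TS I R L} {α : L → L} (h : OddAut T.P α)

variable (T α) in
/-- The correspondence on exponent vectors induced by `α`. -/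
def ρ (a a' : I → R) : Prop := T.Tor a ∧ T.Tor a' ∧ α (T.d a) = T.d a'

include h

theorem map_A : ∀ y ∈ T.A, α y ∈ T.A :=
  char_A h.hom h.mem (fun _ => h.inj) fun _ => h.surj le_rfl h.mem

theorem cor : T.Cor (T.ρ α) := by
  refine ⟨fun e => ⟨e.1, e.2.1⟩, fun a ha => ?_, fun a ha => ?_, fun e e' => ?_, fun e => ?_⟩
  · obtain ⟨a', h1, h2⟩ := mem_A.1 (map_A h _ (d_mem ha))
    exact ⟨a', ha, h1, h2.symm⟩
  · obtain ⟨y, hy, e⟩ := h.surj A_le_P (map_A h) (d_mem ha)
    obtain ⟨b, hb, rfl⟩ := mem_A.1 hy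
    exact ⟨b, hb, ha, e⟩
  · refine ⟨e.1.sub e'.1, e.2.1.sub e'.2.1, ?_⟩
    rw [d_sub e.1 e'.1, d_sub e.2.1 e'.2.1, h.hom _ (A_le_P (d_mem e.1)) _
      (inv_mem (A_le_P (d_mem e'.1))), h.hom.map_inv (A_le_P (d_mem e'.1)), e.2.2, e'.2.2]
  · rw [← d_eq_one e.1, ← d_eq_one e.2.1, ← e.2.2]
    exact ⟨fun e => by rw [e, h.hom.map_one], h.inj (A_le_P (d_mem e.1))⟩

omit h in
theorem rel_of {g g' : L} {v v' : Perm I} (h1 : T.Act g v) (h2 : T.Act g' v') (c1 : T.Cs v)
    (c2 : T.Cs v') (e : ∀ y ∈ T.A, α (g * y * g⁻¹) = g' * α y * g'⁻¹) : Rel (T.ρ α) v v' :=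
  fun a a' k => ⟨k.1.comp c1, k.2.1.comp c2, by
    rw [← h1 a k.1, e _ (d_mem k.1), k.2.2, h2 a' k.2.1]⟩

theorem exists_γ : ∃ γ : Perm I → Perm I, (∀ v, T.Cs v → T.Cs (γ v) ∧ Rel (T.ρ α) v (γ v)) ∧
    (∀ v ∈ T.W, γ v ∈ T.W) ∧ (∀ v w, T.Cs v → T.Cs w → γ (v * w) = γ v * γ w) ∧
    ∃ N, Odd N ∧ ∀ v, T.Cs v → γ^[N] v = v := by
  have tot : ∀ v, ∃ v', T.Cs v → T.Cs v' ∧ Rel (T.ρ α) v v' := fun v => by
    by_cases c : T.Cs v
    swap
    · exact ⟨1, fun c' => absurd c' c⟩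
    obtain ⟨x, hx, e⟩ := lift c.inv
    have h1 := act_θ hx
    rw [e, inv_inv] at h1
    obtain ⟨g', hg'⟩ := h.fus T.A A_le_P (T.θ x) fun y hy => A_le_P (h1.mem c hy)
    obtain ⟨v', c', h2, -⟩ := exists_act (g := g') fun y hy => by
      obtain ⟨z, hz, rfl⟩ := h.surj A_le_P (map_A h) hy
      rw [← hg' z hz]
      exact map_A h _ (h1.mem c hz)
    exact ⟨v', fun _ => ⟨c', rel_of h1 h2 c c' hg'⟩⟩
  choose γ hγ using tot
  refine ⟨γ, hγ, fun v hv => ?_, fun v w cv cw => ?_, ?_⟩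
  · obtain ⟨x, hx, e⟩ := lift_W (inv_mem hv)
    have h1 := act_θ hx.1
    rw [e, inv_inv] at h1
    obtain ⟨y, hy, e'⟩ := mem_P.1 (h.mem _ (θ_mem hx))
    have c := cs_W hv
    have := rel_of (α := α) h1 (act_θ hy.1) c hy.1.2.1.inv fun z hz => by
      rw [h.hom.map_conj (θ_mem hx) (A_le_P hz), e']
    rw [(hγ v c).2.unique (cor h) this (hγ v c).1 hy.1.2.1.inv]
    exact inv_mem hy.2
  · exact (hγ _ (cv.mul cw)).2.unique (cor h) ((hγ v cv).2.mul (hγ w cw).2) (hγ _ (cv.mul cw)).1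
      ((hγ v cv).1.mul (hγ w cw).1)
  · obtain ⟨N, hN, e⟩ := h.per
    refine ⟨N, hN, fun v c => ?_⟩
    have key : ∀ n, T.Cs (γ^[n] v) ∧ ∀ a a', T.Tor a → T.Tor a' → α^[n] (T.d a) = T.d a' →
        α^[n] (T.d fun p => a (v p)) = T.d fun p => a' (γ^[n] v p) := by
      intro n
      induction n with
      | zero =>
        refine ⟨c, fun a a' ha ha' e => ?_⟩
        simp only [Function.iterate_zero, id] at e ⊢
        rw [d_eq_iff ha ha'] at e
        exact (d_eq_iff (ha.comp c) (ha'.comp c)).2 fun p q => e (v p) (v q)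
      | succ n ih =>
        simp only [Function.iterate_succ_apply']
        refine ⟨(hγ _ ih.1).1, fun a a' ha ha' e => ?_⟩
        obtain ⟨b, hb, eb⟩ := mem_A.1 (OddAut.iter_mem (map_A h) (d_mem ha) n)
        rw [ih.2 a b ha hb eb.symm]
        exact ((hγ _ ih.1).2 b a' ⟨hb, ha', eb ▸ e⟩).2.2
    refine faithful2 (key N).1 c fun a ha => ?_
    have := (key N).2 a a ha ha (e _ (A_le_P (d_mem ha)))
    rw [e _ (A_le_P (d_mem (ha.comp c)))] at this
    exact (d_eq_iff (ha.comp (key N).1) (ha.comp c)).1 this.symm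

theorem fix_cm {v : Perm I} (c : T.Cs v) (hv : T.Cyc v) (hr : Rel (T.ρ α) v v) {a : I → R}
    (ha : T.Tor a) : α (T.d (cm v a)) = T.d (cm v a) := by
  let Q : Subgroup L :=
    { carrier := {x | ∃ a, T.Tor a ∧ T.d (cm v a) = x}
      one_mem' := ⟨0, tor_zero, (d_eq_one (tor_zero.cm c)).2 fun _ _ => rfl⟩
      mul_mem' := by
        rintro _ _ ⟨a, ha, rfl⟩ ⟨b, hb, rfl⟩
        refine ⟨a + b, ha.add hb, ?_⟩
        rw [← d_add (ha.cm c) (hb.cm c)]
        congr 1
        ext p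
        simp only [cm, Pi.add_apply]
        ring
      inv_mem' := by
        rintro _ ⟨a, ha, rfl⟩
        refine ⟨-a, ha.neg, eq_inv_of_mul_eq_one_left ?_⟩
        rw [← d_add (ha.neg.cm c) (ha.cm c), d_eq_one ((ha.neg.cm c).add (ha.cm c))]
        exact cst_of_zero fun p => by simp [cm] }
  have hQA : Q ≤ T.A := by
    rintro _ ⟨a, ha, rfl⟩
    exact d_mem (ha.cm c)
  refine h.fix_of_invol isPGroup_P (Q := Q) (hQA.trans A_le_P) ?_
    (fun x hx y hy => A_comm (hQA hx) (hQA hy)) ?_ ⟨a, ha, rfl⟩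
  · rintro _ ⟨a, ha, rfl⟩
    obtain ⟨a', e⟩ := (cor h).total a ha
    exact ⟨a', e.2.1, (hr.cm (cor h) e).2.2.symm⟩
  · rintro _ ⟨a, ha, rfl⟩ h2
    obtain ⟨a', e⟩ := (cor h).total a ha
    have k := hr.cm (cor h) e
    by_cases h1 : Cst (cm v a)
    · rw [(d_eq_one k.1).2 h1, h.hom.map_one]
    rw [← d_nsmul k.1, d_eq_one (k.1.nsmul 2)] at h2
    rw [k.2.2, d_eq_iff k.2.1 k.1]
    exact hv.c1 a' a e.2.1 ha (((cor h).cst ((cor h).nsmul k 2)).1 h2) h2
      (mt ((cor h).cst k).2 h1) h1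

theorem fix_E (h3 : 3 ≤ Fintype.card I) {i l : I} (hp : T.Pr i l)
    (hr : Rel (T.ρ α) (swap i l) (swap i l)) (t : R) :
    α (T.d (E i l (T.u * t))) = T.d (E i l (T.u * t)) := by
  obtain ⟨m, m1, m2⟩ := exists_third h3 i l
  obtain ⟨G, hG, e, -⟩ := exG hp m1 m2 (Or.inr rfl)
  have := fix_cm h hp.cs (cyc_swap h3 hp) hr (hG.mul (-t))
  rwa [cm_swap hp.1, show -t * G l - -t * G i = T.u * t by linear_combination t * e] at this

theorem fix_add {a b : I → R} (ha : T.Tor a) (hb : T.Tor b) (h1 : α (T.d a) = T.d a)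
    (h2 : α (T.d b) = T.d b) : α (T.d (a + b)) = T.d (a + b) := by
  rw [d_add ha hb, h.hom _ (A_le_P (d_mem ha)) _ (A_le_P (d_mem hb)), h1, h2]

theorem fix_zero : α (T.d 0) = T.d 0 := by
  rw [(d_eq_one tor_zero).2 fun _ _ => rfl, h.hom.map_one]

theorem fix_A : ∀ y ∈ T.A, α y = y := by
  rcases T.big with h3 | ⟨h2, -⟩
  swap
  · refine fun y hy => h.fix_of_invol isPGroup_P A_le_P (map_A h) (fun x hx y hy => A_comm hx hy)
      (fun x hx e => ?_) hy
    obtain ⟨a, ha, rfl⟩ := mem_A.1 hx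
    obtain ⟨a', k⟩ := (cor h).total a ha
    by_cases h1 : Cst a
    · rw [(d_eq_one ha).2 h1, h.hom.map_one]
    rw [← d_nsmul ha, d_eq_one (ha.nsmul 2)] at e
    rw [k.2.2, d_eq_iff k.2.1 ha]
    exact inv_two h2 k.2.1 ha (((cor h).cst ((cor h).nsmul k 2)).1 e) e
      (mt ((cor h).cst k).2 h1) h1
  obtain ⟨γ, g1, g2, g3, N, hN, g4⟩ := exists_γ h
  have sw : ∀ w, T.Cs w → w.IsSwap → (γ w).IsSwap := by
    rintro _ c ⟨i, l, hil, rfl⟩
    obtain ⟨i', l', hp, e⟩ := ((cyc_swap h3 (pr_of_cs hil c)).transfer (cor h) (g1 _ c).2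
      (g1 _ c).1).isSwap (g1 _ c).1
    exact ⟨i', l', hp.1, e⟩
  have tau := T.pd.sn γ g2 (fun v hv w hw => g3 v w (cs_W hv) (cs_W hw))
    ⟨N, hN, fun v hv => g4 v (cs_W hv)⟩ fun w hw => sw w (cs_W hw)
  rcases T.cases with h1 | h2
  · have cs : ∀ w, T.Cs w := fun w => by simp [Cs, h1.1]
    have fx : ∀ i l s, α (T.d (E i l s)) = T.d (E i l s) := fun i l s => by
      by_cases hil : i = l
      · have : E i l s = 0 := by ext p; simp [E, hil]
        rw [this, fix_zero h]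
      have := fix_swaps T.φφ T.pd.fix (fun v w => g3 v w (cs v) (cs w))
        ⟨N, hN, fun v => g4 v (cs v)⟩ (fun w => sw w (cs w)) tau hil
      simpa [h1.2.2] using fix_E h h3 ⟨hil, Or.inl h1⟩ (by
        have k := (g1 _ (cs (swap i l))).2
        rwa [this] at k) s
    intro y hy
    obtain ⟨a, ha, rfl⟩ := mem_A.1 hy
    have : Nonempty I := Fintype.card_pos_iff.1 (by omega)
    obtain ⟨i⟩ := this
    have e : a = ∑ p, E p i (a p) := by
      ext q
      simp only [Finset.sum_apply, E, sum_sub_distrib, sum_ite_eq, mem_univ, if_true]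
      split_ifs <;> simp [ha.2]
    rw [e]
    refine (sum_induction _ (fun a => T.Tor a ∧ α (T.d a) = T.d a) (fun a b ha hb =>
      ⟨ha.1.add hb.1, fix_add h ha.1 hb.1 ha.2 hb.2⟩) ⟨tor_zero, fix_zero h⟩ fun p _ =>
      ⟨⟨by simp [h1.1, h1.2.1], sum_E _ _ _⟩, fx _ _ _⟩).2
  classical
  have key : ∀ n, ∀ a, T.Tor a → (∀ p, ∃ t, a p = 2 * t) → #{p | a p ≠ 0} ≤ n →
      α (T.d a) = T.d a := by
    intro n
    induction n with
    | zero =>
      intro a _ _ hc
      have : a = 0 := funext fun p => by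
        by_contra e
        have := card_pos.2 ⟨p, show p ∈ ({p | a p ≠ 0} : Finset I) by simpa using e⟩
        omega
      rw [this, fix_zero h]
    | succ n ih =>
      intro a ha he hc
      by_cases hi : ∃ i, T.φ i ≠ i ∧ a i ≠ 0
      swap
      · have : a = 0 := funext fun p => by
          by_contra e
          push Not at hi
          have hf : ∀ q, a q ≠ 0 → T.φ q = q := fun q hq => by_contra fun e => hq (hi q e)
          refine e ((sum_eq_single p (fun q _ hq => ?_) (by simp)).symm.trans ha.2)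
          by_contra e'
          exact hq (T.pd.fix _ _ (hf q e') (hf p e))
        rw [this, fix_zero h]
      obtain ⟨i, hi, hi'⟩ := hi
      obtain ⟨t, ht⟩ := he i
      have tE := tor_E (pr_φ hi) t
      have fE := fix_E h h3 (pr_φ hi) (by
        have k := (g1 _ (pr_φ hi).cs).2
        rwa [tau] at k) t
      have e1 : ∀ p, (a - E i (T.φ i) (T.u * t)) p = if p = i ∨ p = T.φ i then 0 else a p := by
        intro p
        rw [Pi.sub_apply, h2.2.2]
        split_ifs with hp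
        · rcases hp with rfl | rfl
          · rw [E_left hi.symm, ht, sub_self]
          · have := ha.1 i
            rw [h2.1, h2.2.1, ht] at this
            rw [E_right hi.symm, this]
            linear_combination t * T.j4
        · push Not at hp
          rw [E_ne hp.1 hp.2, sub_zero]
      have := ih _ (ha.sub tE) (fun p => by
        rw [e1]
        split_ifs
        · exact ⟨0, by simp⟩
        · exact he p) (by
        have : #{p | (a - E i (T.φ i) (T.u * t)) p ≠ 0} < #{p | a p ≠ 0} := by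
          refine card_lt_card ⟨fun p hp => ?_, fun e => ?_⟩
          · simp only [e1, mem_filter, mem_univ, true_and] at hp ⊢
            exact fun e => hp (by simp [e])
          · have := e (show i ∈ ({p | a p ≠ 0} : Finset I) by simpa using hi')
            simp only [e1, mem_filter] at this
            simp at this
        omega)
      simpa using fix_add h (ha.sub tE) tE this fE
  refine fun y hy => h.fix_of_invol isPGroup_P A_le_P (map_A h) (fun x hx y hy => A_comm hx hy)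
    (fun x hx e => ?_) hy
  obtain ⟨a, ha, rfl⟩ := mem_A.1 hx
  rw [← d_nsmul ha, d_eq_one (ha.nsmul 2)] at e
  refine key _ a ha (fun p => ?_) le_rfl
  have e1 := e p (T.φ p)
  have e2 := ha.1 p
  have ju := T.ju
  rw [h2.1, h2.2.1] at e2
  rw [h2.2.2] at ju
  simp only [ns_apply, Nat.cast_ofNat, e2] at e1
  exact even_of (D := T.toAD) (by
    linear_combination 2 ^ T.c * e1 + 2 * a p * ju + 2 ^ T.c * a p * T.j4)

theorem fix_P : ∀ y ∈ T.P, α y = y := fun y hy => by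
  refine h.stab isPGroup_P hy (fix_A h _ ?_)
  obtain ⟨x, hx, e⟩ := mem_P.1 (mul_mem (inv_mem hy) (h.mem y hy))
  have h1 : T.Act (T.θ x) 1 := fun a ha => by
    have k := h.hom.map_conj hy (A_le_P (d_mem ha))
    rw [fix_A h _ (conj_mem_A hy (d_mem ha)), fix_A h _ (d_mem ha)] at k
    rw [e]
    calc y⁻¹ * α y * T.d a * (y⁻¹ * α y)⁻¹ = y⁻¹ * (α y * T.d a * (α y)⁻¹) * y := by group
      _ = T.d a := by rw [← k]; group
  have h2 : x.w = 1 := inv_eq_one.1 ((act_θ hx.1).unique h1 hx.1.2.1.inv cs_one)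
  rw [← e, eq_dg h2]
  exact d_mem (dg_mem.1 (eq_dg h2 ▸ hx.1))

omit h in
theorem star [Finite L] (T : TS I R L) : Star L := by
  obtain ⟨S, hS⟩ := isSylowIn_top_iff.1 (sylow (T := T))
  exact star_of_one (hS ▸ Tr.SylowIn.top S) fun _ h => fix_P h

end TS

end Cfsg.Agent.LT
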